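import Cfsg.Agent.Lib.PermComp.Simple

/-!
# Central extensions of simple groups acting on cosets

Abstract lemmas: the kernel of an action from Sylow subgroups, primitivity from a table of orbits,
the centre as the kernel, transport along isomorphisms.
-/

namespace Cfsg.Agent.Lib.PermComp.Cover

open Subgroup

section Kernel

variable {G : Type*} [Group G] [Finite G]

/-- The factorization of an explicit number. -/
theorem factorization_eq {n p a m : ℕ} (hp : p.Prime) (h : n = p ^ a * m) (hm : ¬ p ∣ m) :
    n.factorization p = a := by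
  have hm0 : m ≠ 0 := by
    rintro rfl
    exact hm (dvd_zero p)
  rw [h, Nat.factorization_mul (pow_ne_zero _ hp.ne_zero) hm0, Finsupp.add_apply,
    hp.factorization_pow, Finsupp.single_eq_same, Nat.factorization_eq_zero_of_not_dvd hm,
    add_zero]

/-- A normal subgroup meeting the Sylow subgroups for the other primes trivially lies in a Sylow
subgroup. -/
theorem le_of_sylow (N : Subgroup G) [N.Normal] (p0 : ℕ) [hp0 : Fact p0.Prime] (Q : Subgroup G)
    (hQ : Nat.card Q = p0 ^ (Nat.card G).factorization p0)
    (hother : ∀ p, p.Prime → p ∣ Nat.card G → p ≠ p0 → ∃ R : Subgroup G,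
      Nat.card R = p ^ (Nat.card G).factorization p ∧ ∀ x ∈ R, x ∈ N → orderOf x = p → False) :
    N ≤ Q := by
  have hcard : Nat.card N = p0 ^ (Nat.card N).primeFactorsList.length := by
    refine Nat.eq_prime_pow_of_unique_prime_dvd Nat.card_pos.ne' ?_
    intro d hd hdvd
    by_contra hne
    have : Fact d.Prime := ⟨hd⟩
    obtain ⟨R, hR, hRN⟩ := hother d hd (hdvd.trans (Subgroup.card_subgroup_dvd_card N)) hne
    obtain ⟨x, hxR, hxN, hxo⟩ := Simple.exists_mem_sylow_of_dvd N d hdvd R hR
    exact hRN x hxR hxN hxo
  have hpg : IsPGroup p0 N := IsPGroup.of_card hcard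
  obtain ⟨S, hS⟩ := hpg.exists_le_sylow
  let S0 : Sylow p0 G := Sylow.ofCard Q hQ
  obtain ⟨g, hg⟩ := MulAction.exists_smul_eq G S S0
  intro n hn
  have hn' : g⁻¹ * n * g⁻¹⁻¹ ∈ N := ‹N.Normal›.conj_mem n hn g⁻¹
  have hn2 : g⁻¹ * n * g ∈ (S : Subgroup G) := by
    have := hS hn'
    simpa using this
  have h1 : ((g • S : Sylow p0 G) : Subgroup G) = Q := by
    rw [hg]
    rfl
  rw [← h1, Sylow.coe_subgroup_smul]
  refine ⟨g⁻¹ * n * g, hn2, ?_⟩
  show g * (g⁻¹ * n * g) * g⁻¹ = n
  group

end Kernel

section Prim

open MulAction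
open scoped Pointwise

/-- A group acting transitively such that the sums of the sizes of the given pieces, which are
permuted by the stabilizer, are not divisors of the degree, is primitive. -/
theorem preprimitive_of_labels {n r : ℕ} (H : Subgroup (Equiv.Perm (Fin n)))
    [hT : IsPretransitive H (Fin n)] (x0 : Fin n) (lab : Fin n → Fin r) (rep : Fin r → Fin n)
    (hlab : ∀ x, ∃ h ∈ H, h x0 = x0 ∧ h x = rep (lab x))
    (c : Fin r → ℕ) (hc : ∀ i, (Finset.univ.filter (fun x => lab x = i)).card = c i)
    (hsum : ∀ I : Finset (Fin r), lab x0 ∈ I → (∑ i ∈ I, c i) ∣ n →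
      (∑ i ∈ I, c i) = 1 ∨ (∑ i ∈ I, c i) = n) : IsPreprimitive H (Fin n) := by
  classical
  refine IsPreprimitive.of_isTrivialBlock_base x0 ?_
  intro B hx0 hB
  -- invariance
  have hinv : ∀ h ∈ H, h x0 = x0 → ∀ x, x ∈ B ↔ h x ∈ B := by
    intro h hh hfix x
    have h1 : (⟨h, hh⟩ : H) • B = B := by
      rcases hB.smul_eq_or_disjoint (⟨h, hh⟩ : H) with h2 | h2
      · exact h2
      · exfalso
        have hm : x0 ∈ (⟨h, hh⟩ : H) • B := ⟨x0, hx0, hfix⟩
        exact Set.disjoint_left.1 h2 hm hx0
    constructor
    · intro hx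
      rw [← h1]
      exact ⟨x, hx, rfl⟩
    · intro hx
      rw [← h1] at hx
      obtain ⟨y, hy, hxy⟩ := hx
      have : h y = h x := hxy
      rw [h.injective this] at hy
      exact hy
  let I : Finset (Fin r) := Finset.univ.filter (fun i => rep i ∈ B)
  have hmem : ∀ x, x ∈ B ↔ lab x ∈ I := by
    intro x
    obtain ⟨h, hh, hfix, hx⟩ := hlab x
    rw [hinv h hh hfix x, hx]
    simp [I]
  have hcard : B.ncard = ∑ i ∈ I, c i := by
    have h1 : B = ((Finset.univ.filter (fun x => lab x ∈ I) : Finset (Fin n)) : Set (Fin n)) := by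
      ext x
      simp [hmem x]
    rw [h1, Set.ncard_coe_finset]
    rw [Finset.card_eq_sum_card_fiberwise (f := lab) (t := I)]
    · apply Finset.sum_congr rfl
      intro i hi
      rw [← hc i]
      congr 1
      ext x
      simp only [Finset.mem_filter, Finset.mem_univ, true_and]
      constructor
      · rintro ⟨_, h⟩
        exact h
      · intro h
        exact ⟨h ▸ hi, h⟩
    · intro x hx
      simpa using hx
  have hdvd : B.ncard ∣ n := by
    have := hB.ncard_dvd_card ⟨x0, hx0⟩
    simpa using this
  rw [hcard] at hdvd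
  rcases hsum I ((hmem x0).1 hx0) hdvd with h1 | h1
  · left
    have : B.ncard = 1 := by rw [hcard, h1]
    rw [Set.ncard_eq_one] at this
    obtain ⟨a, rfl⟩ := this
    exact Set.subsingleton_singleton
  · right
    have : B.ncard = n := by rw [hcard, h1]
    apply Set.eq_of_subset_of_ncard_le (Set.subset_univ _)
    rw [this, Set.ncard_univ]
    simp

end Prim

section Center

variable {G : Type*} [Group G]

/-- The centre of a group mapped onto a non-abelian simple group, with central kernel. -/
theorem center_eq_ker {β : Type*} [Group β] (P : G →* β) (hs : IsSimpleGroup P.range)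
    (hnp : ¬ (Nat.card P.range).Prime) (hk : P.ker ≤ center G) : center G = P.ker := by
  refine le_antisymm ?_ hk
  have hn : ((center G).map P.rangeRestrict).Normal :=
    Subgroup.Normal.map inferInstance _ P.rangeRestrict_surjective
  rcases hs.eq_bot_or_eq_top_of_normal _ hn with h | h
  · intro g hg
    have : P.rangeRestrict g ∈ (center G).map P.rangeRestrict := ⟨g, hg, rfl⟩
    rw [h, Subgroup.mem_bot] at this
    rw [MonoidHom.mem_ker]
    exact congrArg Subtype.val this
  · exfalso
    apply hnp
    have hcomm : ∀ a b : P.range, a * b = b * a := by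
      intro a b
      have ha : a ∈ (center G).map P.rangeRestrict := by rw [h]; trivial
      have hb : b ∈ (center G).map P.rangeRestrict := by rw [h]; trivial
      obtain ⟨x, hx, rfl⟩ := ha
      obtain ⟨y, hy, rfl⟩ := hb
      rw [← map_mul, ← map_mul]
      congr 1
      exact (Subgroup.mem_center_iff.1 hx y).symm
    let _ : CommGroup P.range := { (inferInstance : Group P.range) with mul_comm := hcomm }
    exact IsSimpleGroup.prime_card

/-- The quotient by the centre, when it is the kernel. -/
theorem quot_center_equiv {β : Type*} [Group β] (P : G →* β) (h : center G = P.ker) :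
    Nonempty (G ⧸ center G ≃* P.range) :=
  ⟨(QuotientGroup.quotientMulEquivOfEq h).trans (QuotientGroup.quotientKerEquivRange P)⟩

variable {G' : Type*} [Group G']

theorem map_center_eq (e : G ≃* G') : (center G).map e.toMonoidHom = center G' := by
  ext x
  constructor
  · rintro ⟨g, hg, rfl⟩
    rw [Subgroup.mem_center_iff]
    intro y
    obtain ⟨z, rfl⟩ := e.surjective y
    have := Subgroup.mem_center_iff.1 hg z
    show e z * e g = e g * e z
    rw [← map_mul, ← map_mul, this]
  · intro hx
    refine ⟨e.symm x, ?_, by simp⟩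
    rw [SetLike.mem_coe, Subgroup.mem_center_iff]
    intro z
    apply e.injective
    rw [map_mul, map_mul, e.apply_symm_apply]
    exact Subgroup.mem_center_iff.1 hx (e z)

/-- Isomorphic groups have isomorphic central quotients. -/
theorem quot_center_congr (e : G ≃* G') : Nonempty (G ⧸ center G ≃* G' ⧸ center G') :=
  ⟨QuotientGroup.congr _ _ e (map_center_eq e)⟩

/-- Isomorphic groups have centres of the same order. -/
theorem card_center_congr (e : G ≃* G') : Nat.card (center G) = Nat.card (center G') := by
  rw [← map_center_eq e]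
  exact Nat.card_congr (e.subgroupMap (center G)).toEquiv

end Center

end Cfsg.Agent.Lib.PermComp.Cover
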