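import Cfsg.Agent.Lib.PermComp.Core
import Cfsg.Prelude.Def_Spor_Mathieu

/-!
# The group generated by `x ↦ x + 1`, `x ↦ -1/x` and the cube twist

Certificate (generated by `tools/ssgen.py`) for the stabilizer chain of the group `G24` generated
by the three permutations of the 24 points, with base `none, 0, 1, 2, 3, ...`.
-/

namespace Cfsg.Agent.Lib.PermComp.G24

open Cfsg

def g24_n : Nat := nat_lit 24
def g24_w : Nat := nat_lit 5
def g24_mask : Nat := nat_lit 31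
def g24_L : Nat := nat_lit 120
def g24_maskL : Nat := nat_lit 0xffffffffffffffffffffffffffffff
def g24_idc : Nat := nat_lit 0xbdab49ca307b9ac5a928398a418820
def T0 : Nat := nat_lit 0xb82d5a4e5183dcd62d4941cc520c41
def T1 : Nat := nat_lit 0x5883388a1c8f5140b46cd317aed7
def T2 : Nat := nat_lit 0xbba8ab116d7c52899d90286a219a40
/-- The generator codes. -/
def nthT : Nat → Nat
  | 0 => T0
  | 1 => T1
  | _ => T2
def g24_T : List Nat := [T0, T1, T2]
def g24_prog : List (Nat × Nat × Nat) := [(nat_lit 1, nat_lit 1, nat_lit 0), (nat_lit 1, nat_lit 3, nat_lit 0), (nat_lit 0, nat_lit 4, nat_lit 3), (nat_lit 0, nat_lit 0, nat_lit 5), (nat_lit 0, nat_lit 0, nat_lit 5), (nat_lit 0, nat_lit 0, nat_lit 6), (nat_lit 0, nat_lit 5, nat_lit 4), (nat_lit 0, nat_lit 0, nat_lit 1), (nat_lit 0, nat_lit 9, nat_lit 10), (nat_lit 0, nat_lit 0, nat_lit 11), (nat_lit 0, nat_lit 0, nat_lit 11), (nat_lit 0, nat_lit 0, nat_lit 13),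 (nat_lit 0, nat_lit 0, nat_lit 13), (nat_lit 0, nat_lit 0, nat_lit 14), (nat_lit 0, nat_lit 0, nat_lit 14), (nat_lit 0, nat_lit 0, nat_lit 17), (nat_lit 0, nat_lit 0, nat_lit 16), (nat_lit 0, nat_lit 10, nat_lit 15), (nat_lit 0, nat_lit 0, nat_lit 17), (nat_lit 0, nat_lit 0, nat_lit 2), (nat_lit 1, nat_lit 12, nat_lit 0), (nat_lit 1, nat_lit 1, nat_lit 0), (nat_lit 0, nat_lit 2, nat_lit 14), (nat_lit 0, nat_lit 0, nat_lit 15), (nat_lit 0, nat_lit 0, nat_lit 4), (nat_lit 0, nat_lit 0, nat_lit 17), (nat_lit 0, nat_lit 0, nat_lit 18), (nat_lit 0, nat_lit 0, nat_lit 19), (nat_lit 0, nat_lit 0, nat_lit 20), (nat_lit 0, nat_lit 8, nat_lit 8), (nat_lit 0, nat_lit 0, nat_lit 8), (nat_lit 0, nat_lit 0, nat_lit 10), (nat_lit 0, nat_lit 0, nat_lit 3), (nat_lit 0, nat_lit 13, nat_lit 13), (nat_lit 0, nat_lit 0, nat_lit 26), (nat_lit 0, nat_lit 0, nat_lit 27), (nat_lit 0, nat_lit 0, nat_lit 16), (nat_lit 0, nat_lit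 0, nat_lit 17), (nat_lit 0, nat_lit 0, nat_lit 30), (nat_lit 0, nat_lit 17, nat_lit 18), (nat_lit 0, nat_lit 0, nat_lit 19), (nat_lit 0, nat_lit 0, nat_lit 2), (nat_lit 1, nat_lit 9, nat_lit 0), (nat_lit 1, nat_lit 1, nat_lit 0), (nat_lit 0, nat_lit 2, nat_lit 11), (nat_lit 0, nat_lit 0, nat_lit 3), (nat_lit 0, nat_lit 0, nat_lit 4), (nat_lit 0, nat_lit 0, nat_lit 14), (nat_lit 0, nat_lit 0, nat_lit 6), (nat_lit 0, nat_lit 0, nat_lit 16), (nat_lit 0, nat_lit 7, nat_lit 6), (nat_lit 0, nat_lit 0, nat_lit 8), (nat_lit 0, nat_lit 0, nat_lit 9), (nat_lit 0, nat_lit 0, nat_lit 3), (nat_lit 0, nat_lit 21, nat_lit 21), (nat_lit 0, nat_lit 0, nat_lit 13), (nat_lit 0, nat_lit 0, nat_lit 14), (nat_lit 0, nat_lit 0, nat_lit 24), (nat_lit 0, nat_lit 0, nat_lit 16), (nat_lit 0, nat_lit 0, nat_lit 17), (nat_lit 0, nat_lit 0, nat_lit 18), (nat_lit 0, nat_lit 17, nat_lit 17), (nat_lit 0, nat_lit 0, nat_lit 19), (nat_lit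 0, nat_lit 0, nat_lit 20), (nat_lit 0, nat_lit 0, nat_lit 3), (nat_lit 1, nat_lit 11, nat_lit 0), (nat_lit 1, nat_lit 1, nat_lit 0), (nat_lit 0, nat_lit 2, nat_lit 2), (nat_lit 0, nat_lit 0, nat_lit 14), (nat_lit 0, nat_lit 0, nat_lit 4), (nat_lit 0, nat_lit 3, nat_lit 4), (nat_lit 0, nat_lit 0, nat_lit 4), (nat_lit 0, nat_lit 0, nat_lit 6), (nat_lit 0, nat_lit 0, nat_lit 3), (nat_lit 0, nat_lit 6, nat_lit 9), (nat_lit 0, nat_lit 0, nat_lit 21), (nat_lit 0, nat_lit 0, nat_lit 11), (nat_lit 0, nat_lit 0, nat_lit 23), (nat_lit 0, nat_lit 12, nat_lit 12), (nat_lit 0, nat_lit 0, nat_lit 13), (nat_lit 0, nat_lit 0, nat_lit 13), (nat_lit 0, nat_lit 0, nat_lit 3), (nat_lit 0, nat_lit 28, nat_lit 17), (nat_lit 0, nat_lit 0, nat_lit 18), (nat_lit 0, nat_lit 0, nat_lit 19), (nat_lit 0, nat_lit 0, nat_lit 31), (nat_lit 0, nat_lit 0, nat_lit 21), (nat_lit 0, nat_lit 0, nat_lit 33), (nat_lit 0, nat_lit 0, nat_lit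 23), (nat_lit 0, nat_lit 0, nat_lit 24), (nat_lit 0, nat_lit 0, nat_lit 36), (nat_lit 0, nat_lit 0, nat_lit 37), (nat_lit 0, nat_lit 0, nat_lit 38), (nat_lit 0, nat_lit 12, nat_lit 0), (nat_lit 1, nat_lit 20, nat_lit 0), (nat_lit 1, nat_lit 13, nat_lit 0), (nat_lit 1, nat_lit 2, nat_lit 0), (nat_lit 0, nat_lit 23, nat_lit 3), (nat_lit 0, nat_lit 0, nat_lit 4), (nat_lit 0, nat_lit 0, nat_lit 25), (nat_lit 0, nat_lit 0, nat_lit 18), (nat_lit 0, nat_lit 0, nat_lit 7), (nat_lit 0, nat_lit 0, nat_lit 20), (nat_lit 0, nat_lit 7, nat_lit 8), (nat_lit 0, nat_lit 0, nat_lit 1), (nat_lit 0, nat_lit 11, nat_lit 31), (nat_lit 0, nat_lit 0, nat_lit 12), (nat_lit 0, nat_lit 0, nat_lit 13), (nat_lit 0, nat_lit 0, nat_lit 34), (nat_lit 0, nat_lit 0, nat_lit 27), (nat_lit 0, nat_lit 0, nat_lit 36), (nat_lit 0, nat_lit 0, nat_lit 29), (nat_lit 0, nat_lit 0, nat_lit 30), (nat_lit 0, nat_lit 0, nat_lit 19), (nat_lit 0, nat_lit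 0, nat_lit 20), (nat_lit 0, nat_lit 0, nat_lit 41), (nat_lit 0, nat_lit 19, nat_lit 19), (nat_lit 0, nat_lit 0, nat_lit 1), (nat_lit 0, nat_lit 36, nat_lit 24), (nat_lit 0, nat_lit 0, nat_lit 45), (nat_lit 0, nat_lit 0, nat_lit 46), (nat_lit 0, nat_lit 0, nat_lit 27), (nat_lit 0, nat_lit 0, nat_lit 48), (nat_lit 0, nat_lit 0, nat_lit 29), (nat_lit 0, nat_lit 0, nat_lit 30), (nat_lit 0, nat_lit 0, nat_lit 51), (nat_lit 0, nat_lit 0, nat_lit 52), (nat_lit 0, nat_lit 0, nat_lit 33), (nat_lit 0, nat_lit 31, nat_lit 32), (nat_lit 0, nat_lit 0, nat_lit 1), (nat_lit 1, nat_lit 25, nat_lit 0), (nat_lit 0, nat_lit 13, nat_lit 26), (nat_lit 0, nat_lit 0, nat_lit 27), (nat_lit 0, nat_lit 0, nat_lit 28), (nat_lit 0, nat_lit 3, nat_lit 0)]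
def g24_s0 : Nat := nat_lit 0x5883388a1c8f5140b46cd317aed7
def g24_s1 : Nat := nat_lit 0xb82d5a4e5183dcd62d4941cc520c41
def g24_s2 : Nat := nat_lit 0xbb52c94dc32c0f54468a258c20bd60
def g24_s3 : Nat := nat_lit 0xba905a4c871a56d9384fac19634420
def g24_s4 : Nat := nat_lit 0xba4a78c10fab28db4cc470e4a58820
def g24_s5 : Nat := nat_lit 0xbb1f3a4232ab916218ed4a8ab18820
def g24_s6 : Nat := nat_lit 0xbc92655a2c3b9706cea47d0a818820
def g24_s7 : Nat := nat_lit 0xbc12ba18ad946c79b11553dc418820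
noncomputable def g24_lev0 : Core.Lev := Core.mkLev g24_n g24_w g24_mask g24_L g24_maskL g24_idc (nat_lit 23) [g24_s7, g24_s5, g24_s6, g24_s4, g24_s3, g24_s2, g24_s1, g24_s0] [(nat_lit 0, g24_s0, nat_lit 23), (nat_lit 1, g24_s1, nat_lit 0), (nat_lit 11, g24_s2, nat_lit 1), (nat_lit 2, g24_s1, nat_lit 1), (nat_lit 22, g24_s0, nat_lit 1), (nat_lit 19, g24_s7, nat_lit 11), (nat_lit 4, g24_s5, nat_lit 11), (nat_lit 13, g24_s6, nat_lit 11), (nat_lit 18, g24_s3, nat_lit 11), (nat_lit 8, g24_s2, nat_lit 11), (nat_lit 12, g24_s1, nat_lit 11), (nat_lit 17, g24_s3, nat_lit 2), (nat_lit 15, g24_s2, nat_lit 2), (nat_lit 3, g24_s1, nat_lit 2), (nat_lit 16, g24_s7, nat_lit 22), (nat_lit 9, g24_s4, nat_lit 22), (nat_lit 10, g24_s3, nat_lit 22), (nat_lit 20, g24_s7, nat_lit 19), (nat_lit 6, g24_s0, nat_lit 19), (nat_lit 5, g24_s1, nat_lit 4), (nat_lit 7, g24_s2, nat_lit 13), (nat_lit 14, g24_s1, nat_lit 13), (nat_lit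 21, g24_s7, nat_lit 8)]
noncomputable def g24_lev1 : Core.Lev := Core.mkLev g24_n g24_w g24_mask g24_L g24_maskL g24_idc (nat_lit 0) [g24_s7, g24_s5, g24_s6, g24_s4, g24_s3, g24_s2, g24_s1] [(nat_lit 1, g24_s1, nat_lit 0), (nat_lit 11, g24_s2, nat_lit 1), (nat_lit 2, g24_s1, nat_lit 1), (nat_lit 19, g24_s7, nat_lit 11), (nat_lit 4, g24_s5, nat_lit 11), (nat_lit 13, g24_s6, nat_lit 11), (nat_lit 22, g24_s4, nat_lit 11), (nat_lit 18, g24_s3, nat_lit 11), (nat_lit 8, g24_s2, nat_lit 11), (nat_lit 12, g24_s1, nat_lit 11), (nat_lit 17, g24_s3, nat_lit 2), (nat_lit 15, g24_s2, nat_lit 2), (nat_lit 3, g24_s1, nat_lit 2), (nat_lit 20, g24_s7, nat_lit 19), (nat_lit 10, g24_s6, nat_lit 19), (nat_lit 5, g24_s1, nat_lit 4), (nat_lit 7, g24_s2, nat_lit 13), (nat_lit 14, g24_s1, nat_lit 13), (nat_lit 16, g24_s7, nat_lit 22), (nat_lit 9, g24_s4, nat_lit 22), (nat_lit 6, g24_s7, nat_lit 18), (nat_lit 21, g24_s7, nat_lit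 8)]
noncomputable def g24_lev2 : Core.Lev := Core.mkLev g24_n g24_w g24_mask g24_L g24_maskL g24_idc (nat_lit 1) [g24_s7, g24_s5, g24_s6, g24_s4, g24_s3, g24_s2] [(nat_lit 11, g24_s2, nat_lit 1), (nat_lit 19, g24_s7, nat_lit 11), (nat_lit 4, g24_s5, nat_lit 11), (nat_lit 13, g24_s6, nat_lit 11), (nat_lit 22, g24_s4, nat_lit 11), (nat_lit 18, g24_s3, nat_lit 11), (nat_lit 8, g24_s2, nat_lit 11), (nat_lit 20, g24_s7, nat_lit 19), (nat_lit 10, g24_s6, nat_lit 19), (nat_lit 17, g24_s4, nat_lit 19), (nat_lit 2, g24_s2, nat_lit 4), (nat_lit 7, g24_s2, nat_lit 13), (nat_lit 16, g24_s7, nat_lit 22), (nat_lit 12, g24_s5, nat_lit 22), (nat_lit 9, g24_s4, nat_lit 22), (nat_lit 6, g24_s7, nat_lit 18), (nat_lit 21, g24_s7, nat_lit 8), (nat_lit 15, g24_s3, nat_lit 8), (nat_lit 5, g24_s3, nat_lit 20), (nat_lit 14, g24_s3, nat_lit 10), (nat_lit 3, g24_s2, nat_lit 16)]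
noncomputable def g24_lev3 : Core.Lev := Core.mkLev g24_n g24_w g24_mask g24_L g24_maskL g24_idc (nat_lit 2) [g24_s7, g24_s5, g24_s6, g24_s4, g24_s3] [(nat_lit 17, g24_s3, nat_lit 2), (nat_lit 5, g24_s7, nat_lit 17), (nat_lit 8, g24_s4, nat_lit 17), (nat_lit 4, g24_s3, nat_lit 17), (nat_lit 14, g24_s7, nat_lit 5), (nat_lit 18, g24_s4, nat_lit 5), (nat_lit 12, g24_s3, nat_lit 5), (nat_lit 21, g24_s7, nat_lit 8), (nat_lit 13, g24_s5, nat_lit 8), (nat_lit 15, g24_s3, nat_lit 8), (nat_lit 11, g24_s5, nat_lit 4), (nat_lit 10, g24_s4, nat_lit 4), (nat_lit 22, g24_s3, nat_lit 4), (nat_lit 9, g24_s3, nat_lit 14), (nat_lit 6, g24_s7, nat_lit 18), (nat_lit 16, g24_s5, nat_lit 18), (nat_lit 19, g24_s3, nat_lit 18), (nat_lit 7, g24_s7, nat_lit 12), (nat_lit 20, g24_s4, nat_lit 13), (nat_lit 3, g24_s3, nat_lit 15)]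
noncomputable def g24_lev4 : Core.Lev := Core.mkLev g24_n g24_w g24_mask g24_L g24_maskL g24_idc (nat_lit 3) [g24_s7, g24_s5, g24_s6, g24_s4] [(nat_lit 11, g24_s4, nat_lit 3), (nat_lit 19, g24_s7, nat_lit 11), (nat_lit 4, g24_s5, nat_lit 11), (nat_lit 13, g24_s6, nat_lit 11), (nat_lit 22, g24_s4, nat_lit 11), (nat_lit 20, g24_s7, nat_lit 19), (nat_lit 10, g24_s6, nat_lit 19), (nat_lit 17, g24_s4, nat_lit 19), (nat_lit 8, g24_s6, nat_lit 4), (nat_lit 16, g24_s7, nat_lit 22), (nat_lit 12, g24_s5, nat_lit 22), (nat_lit 18, g24_s6, nat_lit 22), (nat_lit 9, g24_s4, nat_lit 22), (nat_lit 6, g24_s6, nat_lit 20), (nat_lit 7, g24_s4, nat_lit 20), (nat_lit 5, g24_s7, nat_lit 17), (nat_lit 21, g24_s7, nat_lit 8), (nat_lit 15, g24_s4, nat_lit 16), (nat_lit 14, g24_s4, nat_lit 7)]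
noncomputable def g24_lev5 : Core.Lev := Core.mkLev g24_n g24_w g24_mask g24_L g24_maskL g24_idc (nat_lit 4) [g24_s7, g24_s5, g24_s6] [(nat_lit 11, g24_s5, nat_lit 4), (nat_lit 8, g24_s6, nat_lit 4), (nat_lit 19, g24_s7, nat_lit 11), (nat_lit 13, g24_s6, nat_lit 11), (nat_lit 21, g24_s7, nat_lit 8), (nat_lit 20, g24_s7, nat_lit 19), (nat_lit 10, g24_s6, nat_lit 19), (nat_lit 22, g24_s7, nat_lit 13), (nat_lit 9, g24_s7, nat_lit 21), (nat_lit 15, g24_s5, nat_lit 21), (nat_lit 6, g24_s6, nat_lit 20), (nat_lit 12, g24_s7, nat_lit 10), (nat_lit 16, g24_s7, nat_lit 22), (nat_lit 18, g24_s6, nat_lit 22), (nat_lit 7, g24_s5, nat_lit 9)]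
noncomputable def g24_lev6 : Core.Lev := Core.mkLev g24_n g24_w g24_mask g24_L g24_maskL g24_idc (nat_lit 5) [g24_s7] [(nat_lit 14, g24_s7, nat_lit 5), (nat_lit 17, g24_s7, nat_lit 14)]
noncomputable def g24_levels : List Core.Lev := [g24_lev0, g24_lev1, g24_lev2, g24_lev3, g24_lev4, g24_lev5, g24_lev6]

set_option maxRecDepth 100000 in
/-- The certificate passes. -/
theorem g24_check : Core.checkAll g24_n g24_w g24_mask g24_L g24_maskL g24_idc g24_T g24_prog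
    g24_levels = true := by decide +kernel

theorem g24_order : Core.orderC g24_levels = 244823040 := by decide +kernel

/-- Encoding of the 24 points. -/
def enc24 : GolayPt → Fin 24
  | none => ⟨23, by omega⟩
  | some x => ⟨x.val, by have := x.val_lt; omega⟩

/-- Decoding of the 24 points. -/
def dec24 (i : Fin 24) : GolayPt := if h : i.val < 23 then some (⟨i.val, h⟩ : Fin 23) else none

/-- The numbering of the 24 points used throughout: `some x ↦ x`, `none ↦ 23`. -/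
def e24 : GolayPt ≃ Fin 24 where
  toFun := enc24
  invFun := dec24
  left_inv := by decide
  right_inv := by decide

/-- Translation by 1. -/
def genA : Equiv.Perm GolayPt := Equiv.optionCongr (Equiv.addRight (1 : ZMod 23))

/-- Shorthand for `Rep` at the parameters of the certificate. -/
abbrev Rep24 (c : Nat) (g : Equiv.Perm GolayPt) : Prop := Core.Rep g24_w g24_mask e24 c g

theorem rep_A : Rep24 (nthT 0) genA := by
  unfold Rep24 Core.Rep
  decide +kernel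

theorem rep_B : Rep24 (nthT 1) projInv := by
  unfold Rep24 Core.Rep
  decide +kernel

theorem rep_C : Rep24 (nthT 2) cubeTwist := by
  have h : ∀ a : GolayPt, Core.app g24_w g24_mask (nthT 2) (e24 a) = e24 (cubeTwistFun a) := by
    decide +kernel
  exact h

/-- The generators as a set. -/
def genSet : Set (Equiv.Perm GolayPt) := {genA, projInv, cubeTwist}

/-- The group generated by the three permutations. -/
def G24 : Subgroup (Equiv.Perm GolayPt) := Subgroup.closure genSet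

theorem G24_eq_H : Core.H g24_w g24_mask e24 g24_T = G24 := by
  apply Core.H_eq_closure
  · intro c hc
    have h : c = nthT 0 ∨ c = nthT 1 ∨ c = nthT 2 := by simpa [g24_T, nthT] using hc
    rcases h with rfl | rfl | rfl
    · exact ⟨genA, by simp [genSet], rep_A⟩
    · exact ⟨projInv, by simp [genSet], rep_B⟩
    · exact ⟨cubeTwist, by simp [genSet], rep_C⟩
  · intro g hg
    have h : g = genA ∨ g = projInv ∨ g = cubeTwist := by simpa [genSet] using hg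
    rcases h with rfl | rfl | rfl
    · exact ⟨nthT 0, by simp [g24_T, nthT], rep_A⟩
    · exact ⟨nthT 1, by simp [g24_T, nthT], rep_B⟩
    · exact ⟨nthT 2, by simp [g24_T, nthT], rep_C⟩

/-- All facts in one package. -/
theorem g24_main : g24_mask = 2 ^ g24_w - 1 ∧
    (∀ i < g24_n, Core.app g24_w g24_mask g24_idc i = i) ∧ g24_idc < 2 ^ (g24_n * g24_w) ∧
    Core.Sem g24_w g24_mask e24 g24_L g24_maskL g24_levels ∧
    Core.H g24_w g24_mask e24 g24_T = Core.H g24_w g24_mask e24 (Core.topGens g24_levels) ∧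
    Nat.card (Core.H g24_w g24_mask e24 g24_T) = Core.orderC g24_levels := by
  refine Core.main_of_checkAll (n := 24) ?_ g24_check
  intro c hc
  have h : c = nthT 0 ∨ c = nthT 1 ∨ c = nthT 2 := by simpa [g24_T, nthT] using hc
  rcases h with rfl | rfl | rfl
  · exact ⟨_, rep_A⟩
  · exact ⟨_, rep_B⟩
  · exact ⟨_, rep_C⟩

/-- The order of `G24`. -/
theorem card_G24 : Nat.card G24 = 244823040 := by
  rw [← G24_eq_H, g24_main.2.2.2.2.2, g24_order]

end Cfsg.Agent.Lib.PermComp.G24
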