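import Cfsg.Agent.Lib.PermComp.Kron2

/-!
# Coset tables of matrices over the field with four elements: further checks

Pairwise different lists, elements that move a coset, a spanning forest for the action of the
subgroup on the cosets, straight line programs for normal closures.
-/

namespace Cfsg.Agent.Lib.PermComp.Kron

open _root_.Cfsg.Agent.Lib.PermComp.Core (force force_eq app app_eq ifB ifB_eq_true)
open _root_.Cfsg.Agent.Lib.PermComp.Table2 (Tbl)

section Sorted

/-- The check that `σ` sorts the values of a list. -/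
noncomputable def sortedB (U σ : Nat → Nat) (N m : Nat) : Bool :=
  Nat.rec true (fun i ih =>
    ifB (Nat.ble (Nat.succ (σ i)) N) <|
    ifB (Nat.rec true (fun y _ => Nat.ble (Nat.succ (U (σ y))) (U (σ (Nat.succ y)))) i) ih) m

theorem sortedB_spec {U σ : Nat → Nat} {N : Nat} (m : Nat) (h : sortedB U σ N m = true) :
    (∀ i < m, σ i < N) ∧ ∀ y, y + 1 < m → U (σ y) < U (σ (y + 1)) := by
  induction m with
  | zero => exact ⟨fun i hi => by omega, fun y hy => by omega⟩
  | succ m ih =>
    have h' : ifB (Nat.ble (Nat.succ (σ m)) N) (ifB (Nat.rec true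
        (fun y _ => Nat.ble (Nat.succ (U (σ y))) (U (σ (Nat.succ y)))) m)
        (sortedB U σ N m)) = true := h
    rw [ifB_eq_true, ifB_eq_true] at h'
    obtain ⟨h1, h3, h4⟩ := h'
    obtain ⟨ih1, ih2⟩ := ih h4
    refine ⟨?_, ?_⟩
    · intro i hi
      by_cases him : i < m
      · exact ih1 i him
      · have : i = m := by omega
        subst this
        exact Nat.le_of_ble_eq_true h1
    · intro y hy
      by_cases hym : y + 1 < m
      · exact ih2 y hym
      · have : m = y + 1 := by omega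
        subst this
        exact Nat.le_of_ble_eq_true h3

theorem inj_of_sortedB {U σ : Nat → Nat} {n : Nat} (h : sortedB U σ n n = true) :
    ∀ x < n, ∀ y < n, U x = U y → x = y := by
  obtain ⟨h1, hstep⟩ := sortedB_spec n h
  have hmono : ∀ i j, i < j → j < n → U (σ i) < U (σ j) := by
    intro i j hij
    induction j, hij using Nat.le_induction with
    | base => intro h; exact hstep _ h
    | succ j hj ih =>
      intro h
      exact (ih (by omega)).trans (hstep _ h)
  let g : Fin n → Fin n := fun i => ⟨σ i, h1 i i.2⟩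
  have hg : Function.Injective g := by
    intro i j hij
    have h2 : σ i = σ j := congrArg Fin.val hij
    apply Fin.ext
    rcases Nat.lt_trichotomy (i : Nat) j with h3 | h3 | h3
    · have := hmono _ _ h3 j.2
      rw [h2] at this
      omega
    · exact h3
    · have := hmono _ _ h3 i.2
      rw [h2] at this
      omega
  have hsurj : Function.Surjective g := Finite.injective_iff_surjective.1 hg
  intro x hx y hy hxy
  obtain ⟨i, hi⟩ := hsurj ⟨x, hx⟩
  obtain ⟨j, hj⟩ := hsurj ⟨y, hy⟩
  have hi' : σ i = x := congrArg Fin.val hi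
  have hj' : σ j = y := congrArg Fin.val hj
  rw [← hi', ← hj'] at hxy ⊢
  rcases Nat.lt_trichotomy (i : Nat) j with h3 | h3 | h3
  · have := hmono _ _ h3 j.2
    omega
  · rw [h3]
  · have := hmono _ _ h3 i.2
    omega

end Sorted

section Inj

variable {F : Type*} [Field F] {ω : F}

theorem val_bits_inj (h2 : (2 : F) = 0) (hω : ω ^ 2 + ω + 1 = 0) {a0 a1 b0 b1 : Nat} (ha0 : a0 ≤ 1)
    (ha1 : a1 ≤ 1) (hb0 : b0 ≤ 1) (hb1 : b1 ≤ 1) (h : val ω a0 a1 = val ω b0 b1) :
    a0 = b0 ∧ a1 = b1 := by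
  have hneg : ∀ x y : F, x + y = 0 → x = y := by
    intro x y hxy
    have : x = (x + y) - y := by ring
    rw [this, hxy, zero_sub]
    linear_combination (-y) * h2
  have h0 : ω ≠ 0 := by
    rintro rfl
    simp at hω
  have h1 : ω ≠ 1 := by
    rintro rfl
    apply one_ne_zero (α := F)
    have : (1 : F) ^ 2 + 1 + 1 = 0 := hω
    linear_combination this - h2
  have h3 : (1 : F) + ω ≠ 0 := fun h => h1 (hneg _ _ h).symm
  interval_cases a0 <;> interval_cases a1 <;> interval_cases b0 <;> interval_cases b1 <;>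
    simp [val] at h ⊢
  all_goals first
    | exact h1 h
    | exact h1 h.symm
    | exact h0 h
    | exact h0 h.symm
    | exact h3 h
    | exact h3 h.symm

end Inj

section Fmt

/-- A format with injective right records. -/
structure Fmt.Inj (f : Fmt) : Prop where
  hmR : f.mR = 2 ^ f.wR - 1
  hpos0 : ∀ t, D f.P.β (f.DR &&& f.mR) t ≠ 0 → ∃ k < f.P.d, ∃ j < f.P.d, t = f.P.pos k j
  hpos1 : ∀ t, D f.P.β (f.DR >>> f.wR) t ≠ 0 → ∃ k < f.P.d, ∃ j < f.P.d, t = f.P.pos k j

variable {f : Fmt}

theorem lo_vR {a : Nat} (h : f.vR a = true) : Nat.land a f.mR = a &&& (f.DR &&& f.mR) := by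
  have h1 : a &&& f.DR = a := Nat.eq_of_beq_eq_true h
  show a &&& f.mR = _
  rw [← Nat.and_assoc, h1]

theorem hi_vR {a : Nat} (h : f.vR a = true) :
    Nat.shiftRight a f.wR = (a >>> f.wR) &&& (f.DR >>> f.wR) := by
  have h1 : a &&& f.DR = a := Nat.eq_of_beq_eq_true h
  show a >>> f.wR = _
  rw [← Nat.shiftRight_and_distrib, h1]

variable {F : Type*} [Field F] (ω : F)

/-- The right records are determined by their matrices. -/
theorem MR_inj (hf : f.Good) (hi : f.Inj) (h2 : (2 : F) = 0) (hω : ω ^ 2 + ω + 1 = 0) {a c : Nat}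
    (va : f.vR a = true) (vc : f.vR c = true) (h : MR ω f a = MR ω f c) : a = c := by
  have hk : ∀ k < f.P.d, ∀ j < f.P.d,
      D f.P.β (Nat.land a f.mR) (f.P.pos k j) = D f.P.β (Nat.land c f.mR) (f.P.pos k j) ∧
      D f.P.β (Nat.shiftRight a f.wR) (f.P.pos k j) = D f.P.β (Nat.shiftRight c f.wR) (f.P.pos k j) := by
    intro k hk j hj
    have h3 := congrFun (congrFun h ⟨k, hk⟩) ⟨j, hj⟩
    exact val_bits_inj h2 hω ((small_vR hf va).1 _) ((small_vR hf va).2 _) ((small_vR hf vc).1 _)
      ((small_vR hf vc).2 _) h3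
  have hβ : 1 < f.P.β := by
    unfold Par.β
    exact Nat.one_lt_two_pow (by have := hf.hP.hb; omega)
  have hlo : Nat.land a f.mR = Nat.land c f.mR := by
    apply eq_of_D_eq hβ
    intro t
    by_cases ht : D f.P.β (f.DR &&& f.mR) t = 0
    · rw [lo_vR va, lo_vR vc]
      unfold Par.β at ht ⊢
      rw [D_land f.P.b a (f.DR &&& f.mR), D_land f.P.b c (f.DR &&& f.mR), ht]
      simp
    · obtain ⟨k, hk', j, hj', rfl⟩ := hi.hpos0 t ht
      exact (hk k hk' j hj').1
  have hhi : Nat.shiftRight a f.wR = Nat.shiftRight c f.wR := by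
    apply eq_of_D_eq hβ
    intro t
    by_cases ht : D f.P.β (f.DR >>> f.wR) t = 0
    · rw [hi_vR va, hi_vR vc]
      unfold Par.β at ht ⊢
      rw [D_land f.P.b (a >>> f.wR) (f.DR >>> f.wR), D_land f.P.b (c >>> f.wR) (f.DR >>> f.wR), ht]
      simp
    · obtain ⟨k, hk', j, hj', rfl⟩ := hi.hpos1 t ht
      exact (hk k hk' j hj').2
  have e : ∀ z : Nat, z = Nat.land z f.mR + 2 ^ f.wR * Nat.shiftRight z f.wR := by
    intro z
    have h3 : Nat.land z f.mR = z % 2 ^ f.wR := by
      show z &&& f.mR = _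
      rw [hi.hmR, Nat.and_two_pow_sub_one_eq_mod]
    have h4 : Nat.shiftRight z f.wR = z / 2 ^ f.wR := by
      show z >>> f.wR = _
      rw [Nat.shiftRight_eq_div_pow]
    rw [h3, h4, Nat.mod_add_div]
  rw [e a, e c, hlo, hhi]

end Fmt

section KTparts

variable {f : Fmt} {T : KT}

theorem KT.parts {x : Nat} (hat : T.atOK f x = true) : T.treeAt f x = true ∧ f.vL (T.UL x) = true ∧
    f.vR (T.UR x) = true ∧ f.chkP (T.UL x) f.IR f.IL (T.UR x) = true ∧ T.colsOK f x = true := by
  simpa only [KT.atOK, ifB_eq_true] using hat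

end KTparts

section Lists

variable {F : Type*} [Field F] [Finite F] {ω : F} {f : Fmt}

local notation "M" => Matrix (Fin f.P.d) (Fin f.P.d) F

/-- The order of the group generated by a checked list of pairwise different matrices. -/
theorem LT.card_eq {T : LT} (hf : f.Good) (hi : f.Inj) (h2 : (2 : F) = 0) (hω : ω ^ 2 + ω + 1 = 0)
    (hn : 0 < T.n) (hat : ∀ x < T.n, T.atOK f x = true) (hs : ∀ j < T.m, f.vL (T.sL j) = true)
    {σ : Nat → Nat} (hσ : sortedB T.UR σ T.n T.n = true) {S : Set (Matrix (Fin f.P.d) (Fin f.P.d) F)ˣ}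
    (hgs : ∀ j < T.m, ∃ s ∈ S, (s : M) = ML ω f (T.sL j))
    (hS : ∀ s ∈ S, ∃ j < T.m, (s : M) = ML ω f (T.sL j)) :
    Nat.card (Subgroup.closure S) = T.n := by
  have hT := T.good (ω := ω) hf h2 hω hn hat hs
  refine hT.list_eq (fun _ _ _ _ => rfl) hgs hS ?_
  intro x hx y hy hxy
  have vx : f.vR (T.UR x) = true := by
    have := hat x hx
    simp only [LT.atOK, ifB_eq_true] at this
    exact this.2.1
  have vy : f.vR (T.UR y) = true := by
    have := hat y hy
    simp only [LT.atOK, ifB_eq_true] at this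
    exact this.2.1
  exact inj_of_sortedB hσ x hx y hy (MR_inj ω hf hi h2 hω vx vy hxy)

end Lists

section Moves

/-- A list of elements with, for each, a coset that it moves. -/
structure MV where
  /-- left records -/
  EL : Nat → Nat
  /-- right records -/
  ER : Nat → Nat
  /-- the coset -/
  a : Nat → Nat
  /-- its image -/
  b : Nat → Nat
  /-- the element of the subgroup -/
  k : Nat → Nat
  /-- the exceptions -/
  exc : Nat → Bool

/-- The check at `x`. -/
noncomputable def MV.atOK (f : Fmt) (T : KT) (L : MV) (x : Nat) : Bool :=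
  ifB (f.vL (L.EL x)) <|
  ifB (f.chkP (L.EL x) f.IR f.IL (L.ER x)) <|
  Bool.rec (
    force (L.a x) fun a => force (L.b x) fun b => force (L.k x) fun k =>
    ifB (Nat.ble (Nat.succ a) T.n) <|
    ifB (Nat.ble (Nat.succ b) T.n) <|
    ifB (Nat.ble (Nat.succ k) T.nK) <|
    Bool.rec (f.chkP (L.EL x) (T.UR a) (T.UL b) (T.KR k)) false (Nat.beq a b)) true (L.exc x)

variable {F : Type*} [CommRing F] {ω : F} {f : Fmt} {T : KT}

theorem MV.sound {L : MV} (hf : f.Good) (h2 : (2 : F) = 0) (hω : ω ^ 2 + ω + 1 = 0)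
    (hat : ∀ x < T.n, T.atOK f x = true) (hK : ∀ k < T.nK, f.vR (T.KR k) = true) {x : Nat}
    (vE : f.vR (L.ER x) = true) (h : L.atOK f T x = true) (hexc : L.exc x = false) :
    ∃ a < T.n, ∃ b < T.n, ∃ k < T.nK, a ≠ b ∧
      MR ω f (L.ER x) * MR ω f (T.UR a) = MR ω f (T.UR b) * MR ω f (T.KR k) := by
  unfold MV.atOK at h
  rw [ifB_eq_true, ifB_eq_true, hexc] at h
  obtain ⟨h1, h3, h4⟩ := h
  simp only [force_eq, ifB_eq_true] at h4
  obtain ⟨h5, h6, h7, h8⟩ := h4
  have ha : L.a x < T.n := Nat.le_of_ble_eq_true h5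
  have hb : L.b x < T.n := Nat.le_of_ble_eq_true h6
  have hk : L.k x < T.nK := Nat.le_of_ble_eq_true h7
  have hbeq : Nat.beq (L.a x) (L.b x) = false := by
    cases hb' : Nat.beq (L.a x) (L.b x) with
    | false => rfl
    | true =>
      rw [hb'] at h8
      exact absurd h8 Bool.false_ne_true
  have hne : L.a x ≠ L.b x := Nat.ne_of_beq_eq_false hbeq
  have h9 : f.chkP (L.EL x) (T.UR (L.a x)) (T.UL (L.b x)) (T.KR (L.k x)) = true := by
    rw [hbeq] at h8
    exact h8
  obtain ⟨_, h11, h12, h13, _⟩ := KT.parts (hat _ hb)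
  obtain ⟨_, _, h14, _, _⟩ := KT.parts (hat _ ha)
  refine ⟨_, ha, _, hb, _, hk, hne, ?_⟩
  rw [← ML_eq_MR ω hf h2 hω h1 vE h3, ← ML_eq_MR ω hf h2 hω h11 h12 h13]
  exact chkP_sound ω hf h2 hω h1 h14 h11 (hK _ hk) h9

end Moves

section Forest

/-- A spanning forest for the action of the subgroup on the cosets. -/
structure FR where
  /-- number of orbits -/
  r : Nat
  /-- the representatives of the orbits -/
  rep : Nat → Nat
  /-- the orbit of a coset -/
  lab : Nat → Nat
  /-- the depth in the tree of the orbit -/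
  dep : Nat → Nat
  /-- the parent -/
  par : Nat → Nat
  /-- the generator -/
  pg : Nat → Nat
  /-- the element of the subgroup -/
  kid : Nat → Nat
  /-- number of generators of the subgroup -/
  m : Nat
  /-- generators of the subgroup -/
  sL : Nat → Nat

/-- The check at `x`. -/
noncomputable def FR.atOK (f : Fmt) (T : KT) (R : FR) (x : Nat) : Bool :=
  force (R.dep x) fun d => force (R.lab x) fun l =>
  ifB (Nat.ble (Nat.succ l) R.r) <|
  Nat.rec (Nat.beq x (R.rep l)) (fun d' _ =>
    force (R.par x) fun q => force (R.pg x) fun j => force (R.kid x) fun k =>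
    ifB (Nat.ble (Nat.succ q) T.n) <|
    ifB (Nat.ble (Nat.succ j) R.m) <|
    ifB (Nat.beq (R.dep q) d') <|
    ifB (Nat.beq (R.lab q) l) <|
    ifB (Nat.ble (Nat.succ k) T.nK) <|
    f.chkP (R.sL j) (T.UR q) (T.UL x) (T.KR k)) d

variable {F : Type*} [CommRing F] {ω : F} {f : Fmt} {T : KT}

theorem FR.sound {R : FR} (hf : f.Good) (h2 : (2 : F) = 0) (hω : ω ^ 2 + ω + 1 = 0)
    (hat : ∀ x < T.n, T.atOK f x = true) (hK : ∀ k < T.nK, f.vR (T.KR k) = true)
    (hs : ∀ j < R.m, f.vL (R.sL j) = true) {x : Nat} (hx : x < T.n)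
    (h : R.atOK f T x = true) :
    R.lab x < R.r ∧ (R.dep x = 0 → x = R.rep (R.lab x)) ∧
    (R.dep x ≠ 0 → ∃ q < T.n, ∃ j < R.m, ∃ k < T.nK, R.dep q + 1 = R.dep x ∧ R.lab q = R.lab x ∧
      ML ω f (R.sL j) * MR ω f (T.UR q) = MR ω f (T.UR x) * MR ω f (T.KR k)) := by
  simp only [FR.atOK, force_eq] at h
  rw [ifB_eq_true] at h
  obtain ⟨h1, h3⟩ := h
  refine ⟨Nat.le_of_ble_eq_true h1, ?_, ?_⟩
  · intro hd
    rw [hd] at h3
    exact Nat.eq_of_beq_eq_true h3
  · intro hd
    obtain ⟨d', hd'⟩ := Nat.exists_eq_succ_of_ne_zero hd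
    rw [hd'] at h3
    have h4 : ifB (Nat.ble (Nat.succ (R.par x)) T.n) (
      ifB (Nat.ble (Nat.succ (R.pg x)) R.m) (
      ifB (Nat.beq (R.dep (R.par x)) d') (
      ifB (Nat.beq (R.lab (R.par x)) (R.lab x)) (
      ifB (Nat.ble (Nat.succ (R.kid x)) T.nK) (
      f.chkP (R.sL (R.pg x)) (T.UR (R.par x)) (T.UL x) (T.KR (R.kid x))))))) = true := h3
    simp only [ifB_eq_true] at h4
    obtain ⟨h5, h6, h7, h8, h9, h10⟩ := h4
    have hq : R.par x < T.n := Nat.le_of_ble_eq_true h5
    have hj : R.pg x < R.m := Nat.le_of_ble_eq_true h6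
    have hk : R.kid x < T.nK := Nat.le_of_ble_eq_true h9
    refine ⟨_, hq, _, hj, _, hk, ?_, Nat.eq_of_beq_eq_true h8, ?_⟩
    · rw [Nat.eq_of_beq_eq_true h7, hd']
    · obtain ⟨_, h11, h12, h13, _⟩ := KT.parts (hat _ hx)
      obtain ⟨_, _, h14, _, _⟩ := KT.parts (hat _ hq)
      rw [← ML_eq_MR ω hf h2 hω h11 h12 h13]
      exact chkP_sound ω hf h2 hω (hs _ hj) h14 h11 (hK _ hk) h10

end Forest

section Slp

/-- A straight line program in a normal subgroup. -/
structure SP where
  /-- left records of the values -/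
  VL : Nat → Nat
  /-- right records of the values -/
  VR : Nat → Nat
  /-- kinds of instructions: `0`: product, `1`: conjugate by a generator, `2`: inverse,
  otherwise the starting value -/
  kind : Nat → Nat
  /-- first argument -/
  a : Nat → Nat
  /-- second argument -/
  b : Nat → Nat
  /-- number of generators -/
  m : Nat
  /-- generators, left records -/
  sL : Nat → Nat
  /-- generators, right records -/
  sR : Nat → Nat
  /-- the starting value -/
  base : Nat

/-- The step at `i`. -/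
noncomputable def SP.step (f : Fmt) (S : SP) (i : Nat) : Bool :=
  force (S.a i) fun a => force (S.b i) fun b =>
  Nat.rec
    (ifB (Nat.ble (Nat.succ a) i) <| ifB (Nat.ble (Nat.succ b) i) <|
      f.chkP (S.VL a) (S.VR b) f.IL (S.VR i))
    (fun k _ => Nat.rec
      (ifB (Nat.ble (Nat.succ a) i) <| ifB (Nat.ble (Nat.succ b) S.m) <|
        f.chkP (S.VL i) (S.sR b) (S.sL b) (S.VR a))
      (fun k' _ => Nat.rec
        (ifB (Nat.ble (Nat.succ a) i) <| f.chkP (S.VL i) (S.VR a) f.IL f.IR)
        (fun _ _ => Nat.beq (S.VR i) S.base) k') k)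
    (S.kind i)

/-- The check at `i`. -/
noncomputable def SP.atOK (f : Fmt) (S : SP) (i : Nat) : Bool :=
  ifB (f.vL (S.VL i)) <| ifB (f.vR (S.VR i)) <| ifB (f.chkP (S.VL i) f.IR f.IL (S.VR i)) <|
    S.step f i

variable {F : Type*} [CommRing F] {ω : F} {f : Fmt}

/-- All the values of a checked program lie in a subgroup normalized by the generators. -/
theorem SP.mem {S : SP} (hf : f.Good) (h2 : (2 : F) = 0) (hω : ω ^ 2 + ω + 1 = 0) {n : Nat}
    (hat : ∀ i < n, S.atOK f i = true) (hsv : ∀ j < S.m, f.vL (S.sL j) = true ∧ f.vR (S.sR j) = true)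
    (N : Subgroup (Matrix (Fin f.P.d) (Fin f.P.d) F)ˣ)
    (s : Nat → (Matrix (Fin f.P.d) (Fin f.P.d) F)ˣ)
    (hs : ∀ j < S.m, (s j : Matrix (Fin f.P.d) (Fin f.P.d) F) = ML ω f (S.sL j) ∧
      (s j : Matrix (Fin f.P.d) (Fin f.P.d) F) = MR ω f (S.sR j))
    (hN : ∀ j < S.m, ∀ g ∈ N, s j * g * (s j)⁻¹ ∈ N)
    (r : (Matrix (Fin f.P.d) (Fin f.P.d) F)ˣ) (hr : r ∈ N)
    (hr' : (r : Matrix (Fin f.P.d) (Fin f.P.d) F) = MR ω f S.base) :
    ∀ i < n, ∃ g ∈ N, (g : Matrix (Fin f.P.d) (Fin f.P.d) F) = MR ω f (S.VR i) := by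
  have hparts : ∀ i < n, f.vL (S.VL i) = true ∧ f.vR (S.VR i) = true ∧
      ML ω f (S.VL i) = MR ω f (S.VR i) ∧ S.step f i = true := by
    intro i hi
    have := hat i hi
    simp only [SP.atOK, ifB_eq_true] at this
    exact ⟨this.1, this.2.1, ML_eq_MR ω hf h2 hω this.1 this.2.1 this.2.2.1, this.2.2.2⟩
  intro i
  induction i using Nat.strong_induction_on with
  | _ i ih =>
    intro hi
    obtain ⟨h1, h3, h4, h5⟩ := hparts i hi
    unfold SP.step at h5
    simp only [force_eq] at h5
    cases hk : S.kind i with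
    | zero =>
      rw [hk] at h5
      have h6 : ifB (Nat.ble (Nat.succ (S.a i)) i) (ifB (Nat.ble (Nat.succ (S.b i)) i)
          (f.chkP (S.VL (S.a i)) (S.VR (S.b i)) f.IL (S.VR i))) = true := h5
      rw [ifB_eq_true, ifB_eq_true] at h6
      obtain ⟨h7, h8, h9⟩ := h6
      have ha : S.a i < i := Nat.le_of_ble_eq_true h7
      have hb : S.b i < i := Nat.le_of_ble_eq_true h8
      obtain ⟨ga, hga, hra⟩ := ih _ ha (ha.trans hi)
      obtain ⟨gb, hgb, hrb⟩ := ih _ hb (hb.trans hi)
      obtain ⟨h10, _, h11, _⟩ := hparts _ (ha.trans hi)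
      obtain ⟨_, h12, _, _⟩ := hparts _ (hb.trans hi)
      refine ⟨ga * gb, N.mul_mem hga hgb, ?_⟩
      have := chkP_sound ω hf h2 hω h10 h12 hf.hvIL h3 h9
      rw [ML_one ω hf, one_mul, h11] at this
      rw [Units.val_mul, hra, hrb, this]
    | succ k =>
      cases k with
      | zero =>
        rw [hk] at h5
        have h6 : ifB (Nat.ble (Nat.succ (S.a i)) i) (ifB (Nat.ble (Nat.succ (S.b i)) S.m)
            (f.chkP (S.VL i) (S.sR (S.b i)) (S.sL (S.b i)) (S.VR (S.a i)))) = true := h5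
        rw [ifB_eq_true, ifB_eq_true] at h6
        obtain ⟨h7, h8, h9⟩ := h6
        have ha : S.a i < i := Nat.le_of_ble_eq_true h7
        have hb : S.b i < S.m := Nat.le_of_ble_eq_true h8
        obtain ⟨ga, hga, hra⟩ := ih _ ha (ha.trans hi)
        obtain ⟨_, h12, _, _⟩ := hparts _ (ha.trans hi)
        refine ⟨_, hN _ hb _ hga, ?_⟩
        have := chkP_sound ω hf h2 hω h1 (hsv _ hb).2 (hsv _ hb).1 h12 h9
        rw [h4, ← (hs _ hb).2, ← (hs _ hb).1, ← hra] at this
        -- `V * s = s * g`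
        have h13 : (((s (S.b i) * ga * (s (S.b i))⁻¹ : (Matrix (Fin f.P.d) (Fin f.P.d) F)ˣ)) :
            Matrix (Fin f.P.d) (Fin f.P.d) F) * (s (S.b i) : Matrix (Fin f.P.d) (Fin f.P.d) F) =
            (s (S.b i) : Matrix (Fin f.P.d) (Fin f.P.d) F) * (ga : Matrix (Fin f.P.d) (Fin f.P.d) F) := by
          rw [← Units.val_mul, ← Units.val_mul]
          congr 1
          group
        rw [← this] at h13
        exact (Units.mul_left_inj _).1 h13
      | succ k' =>
        cases k' with
        | zero =>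
          rw [hk] at h5
          have h6 : ifB (Nat.ble (Nat.succ (S.a i)) i)
              (f.chkP (S.VL i) (S.VR (S.a i)) f.IL f.IR) = true := h5
          rw [ifB_eq_true] at h6
          obtain ⟨h7, h9⟩ := h6
          have ha : S.a i < i := Nat.le_of_ble_eq_true h7
          obtain ⟨ga, hga, hra⟩ := ih _ ha (ha.trans hi)
          obtain ⟨_, h12, _, _⟩ := hparts _ (ha.trans hi)
          refine ⟨ga⁻¹, N.inv_mem hga, ?_⟩
          have := chkP_sound ω hf h2 hω h1 h12 hf.hvIL hf.hvIR h9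
          rw [ML_one ω hf, MR_one ω hf, one_mul, h4, ← hra] at this
          exact (Units.eq_inv_of_mul_eq_one_right this).symm
        | succ k'' =>
          rw [hk] at h5
          have h6 : Nat.beq (S.VR i) S.base = true := h5
          refine ⟨r, hr, ?_⟩
          rw [hr', Nat.eq_of_beq_eq_true h6]

end Slp

section Count

/-- The number of points with a given label. -/
noncomputable def countB (lab : Nat → Nat) (l n acc : Nat) : Nat :=
  Nat.rec (motive := fun _ => Nat → Nat) (fun acc => acc)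
    (fun x ih acc => force (Bool.rec acc (Nat.succ acc) (Nat.beq (lab x) l)) ih) n acc

theorem countB_eq (lab : Nat → Nat) (l : Nat) : ∀ n acc : Nat,
    countB lab l n acc = acc + ∑ x ∈ Finset.range n, if lab x = l then 1 else 0 := by
  intro n
  induction n with
  | zero => intro acc; rfl
  | succ n ih =>
    intro acc
    have h : countB lab l (n + 1) acc =
        countB lab l n (Bool.rec acc (Nat.succ acc) (Nat.beq (lab n) l)) := by
      show force _ _ = _
      rw [force_eq]
      rfl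
    rw [h, ih, Finset.sum_range_succ]
    cases hb : Nat.beq (lab n) l with
    | false =>
      have : lab n ≠ l := Nat.ne_of_beq_eq_false hb
      simp [this]
    | true =>
      have : lab n = l := Nat.eq_of_beq_eq_true hb
      simp only [this, if_true]
      show acc + 1 + _ = _
      omega

end Count

end Cfsg.Agent.Lib.PermComp.Kron
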