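import Cfsg.Agent.Lib.PermComp.Core

/-!
# Certificates for the explicit generators of the Mathieu groups of degrees 12 and 11

Generated by a run of `tools/ssgen.py` on the explicit eight generators.
-/

namespace Cfsg.Agent.Lib.PermComp.M12Explicit

open Cfsg.Agent.Lib.PermComp

def m12_n : Nat := nat_lit 12
def m12_w : Nat := nat_lit 4
def m12_mask : Nat := nat_lit 15
def m12_L : Nat := nat_lit 48
def m12_maskL : Nat := nat_lit 0xffffffffffff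
def m12_idc : Nat := nat_lit 0xba9876543210
def m12_c0 : Nat := nat_lit 0x9ba687354210
def m12_c1 : Nat := nat_lit 0x543ba9876210
def m12_c2 : Nat := nat_lit 0xa74b85963210
def m12_c3 : Nat := nat_lit 0x49865ab73210
def m12_c4 : Nat := nat_lit 0x95746b8a3210
def m12_c5 : Nat := nat_lit 0x98ba67540213
def m12_c6 : Nat := nat_lit 0x876ba9543201
def m12_c7 : Nat := nat_lit 0x687a9b543120
def m12_T : List Nat := [m12_c0, m12_c1, m12_c2, m12_c3, m12_c4, m12_c5, m12_c6, m12_c7]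
def m12_prog : List (Nat × Nat × Nat) := [(nat_lit 1, nat_lit 0, nat_lit 0), (nat_lit 0, nat_lit 6, nat_lit 4), (nat_lit 0, nat_lit 0, nat_lit 8), (nat_lit 0, nat_lit 0, nat_lit 3), (nat_lit 0, nat_lit 0, nat_lit 4), (nat_lit 0, nat_lit 5, nat_lit 9), (nat_lit 0, nat_lit 0, nat_lit 12), (nat_lit 0, nat_lit 0, nat_lit 7), (nat_lit 0, nat_lit 0, nat_lit 15), (nat_lit 0, nat_lit 0, nat_lit 10), (nat_lit 0, nat_lit 0, nat_lit 11), (nat_lit 0, nat_lit 0, nat_lit 18), (nat_lit 0, nat_lit 0, nat_lit 12), (nat_lit 0, nat_lit 0, nat_lit 16), (nat_lit 0, nat_lit 13, nat_lit 0), (nat_lit 0, nat_lit 19, nat_lit 17), (nat_lit 0, nat_lit 0, nat_lit 23), (nat_lit 0, nat_lit 0, nat_lit 24), (nat_lit 0, nat_lit 0, nat_lit 25), (nat_lit 0, nat_lit 26, nat_lit 23), (nat_lit 0, nat_lit 0, nat_lit 21), (nat_lit 0, nat_lit 0, nat_lit 28), (nat_lit 0, nat_lit 0, nat_lit 26), (nat_lit 0, nat_lit 0,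 nat_lit 23), (nat_lit 0, nat_lit 0, nat_lit 24), (nat_lit 0, nat_lit 0, nat_lit 29), (nat_lit 0, nat_lit 0, nat_lit 28), (nat_lit 0, nat_lit 0, nat_lit 31), (nat_lit 1, nat_lit 9, nat_lit 0), (nat_lit 1, nat_lit 1, nat_lit 0), (nat_lit 1, nat_lit 25, nat_lit 0), (nat_lit 0, nat_lit 16, nat_lit 12), (nat_lit 0, nat_lit 0, nat_lit 27), (nat_lit 0, nat_lit 0, nat_lit 5), (nat_lit 0, nat_lit 0, nat_lit 29), (nat_lit 0, nat_lit 0, nat_lit 20), (nat_lit 0, nat_lit 0, nat_lit 17), (nat_lit 0, nat_lit 0, nat_lit 32), (nat_lit 0, nat_lit 0, nat_lit 19), (nat_lit 0, nat_lit 0, nat_lit 11), (nat_lit 0, nat_lit 0, nat_lit 25), (nat_lit 0, nat_lit 11, nat_lit 10), (nat_lit 0, nat_lit 0, nat_lit 1), (nat_lit 0, nat_lit 24, nat_lit 15), (nat_lit 0, nat_lit 0, nat_lit 16), (nat_lit 0, nat_lit 0, nat_lit 40), (nat_lit 0, nat_lit 0, nat_lit 18), (nat_lit 0, nat_lit 0, nat_lit 32), (nat_lit 0,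 nat_lit 0, nat_lit 20), (nat_lit 0, nat_lit 0, nat_lit 21), (nat_lit 0, nat_lit 20, nat_lit 20), (nat_lit 0, nat_lit 0, nat_lit 1), (nat_lit 0, nat_lit 16, nat_lit 24), (nat_lit 0, nat_lit 0, nat_lit 34), (nat_lit 0, nat_lit 0, nat_lit 26), (nat_lit 0, nat_lit 25, nat_lit 0), (nat_lit 0, nat_lit 51, nat_lit 51), (nat_lit 0, nat_lit 0, nat_lit 38), (nat_lit 0, nat_lit 0, nat_lit 30), (nat_lit 0, nat_lit 0, nat_lit 44), (nat_lit 0, nat_lit 0, nat_lit 45), (nat_lit 0, nat_lit 0, nat_lit 46), (nat_lit 0, nat_lit 0, nat_lit 57), (nat_lit 0, nat_lit 0, nat_lit 48), (nat_lit 0, nat_lit 0, nat_lit 49), (nat_lit 0, nat_lit 0, nat_lit 37), (nat_lit 0, nat_lit 37, nat_lit 36), (nat_lit 0, nat_lit 0, nat_lit 1), (nat_lit 0, nat_lit 24, nat_lit 49), (nat_lit 0, nat_lit 0, nat_lit 64), (nat_lit 0, nat_lit 0, nat_lit 42), (nat_lit 0, nat_lit 0, nat_lit 56), (nat_lit 0, nat_lit 0, nat_lit 57),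 (nat_lit 0, nat_lit 0, nat_lit 45), (nat_lit 0, nat_lit 0, nat_lit 69), (nat_lit 0, nat_lit 24, nat_lit 0), (nat_lit 1, nat_lit 33, nat_lit 0), (nat_lit 1, nat_lit 25, nat_lit 0), (nat_lit 1, nat_lit 10, nat_lit 0), (nat_lit 1, nat_lit 23, nat_lit 0), (nat_lit 0, nat_lit 12, nat_lit 4), (nat_lit 0, nat_lit 0, nat_lit 5), (nat_lit 0, nat_lit 0, nat_lit 30), (nat_lit 0, nat_lit 0, nat_lit 7), (nat_lit 0, nat_lit 0, nat_lit 16), (nat_lit 0, nat_lit 0, nat_lit 17), (nat_lit 0, nat_lit 0, nat_lit 30), (nat_lit 0, nat_lit 0, nat_lit 19), (nat_lit 0, nat_lit 11, nat_lit 0), (nat_lit 0, nat_lit 33, nat_lit 13), (nat_lit 0, nat_lit 0, nat_lit 14), (nat_lit 0, nat_lit 0, nat_lit 15), (nat_lit 0, nat_lit 15, nat_lit 12), (nat_lit 0, nat_lit 0, nat_lit 1), (nat_lit 0, nat_lit 18, nat_lit 26), (nat_lit 0, nat_lit 0, nat_lit 19), (nat_lit 0, nat_lit 0, nat_lit 53), (nat_lit 0, nat_lit 0, nat_lit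 45), (nat_lit 0, nat_lit 0, nat_lit 46), (nat_lit 0, nat_lit 0, nat_lit 23), (nat_lit 0, nat_lit 0, nat_lit 24), (nat_lit 0, nat_lit 0, nat_lit 49), (nat_lit 0, nat_lit 23, nat_lit 24), (nat_lit 0, nat_lit 0, nat_lit 1), (nat_lit 0, nat_lit 61, nat_lit 48), (nat_lit 0, nat_lit 0, nat_lit 62), (nat_lit 0, nat_lit 0, nat_lit 63), (nat_lit 0, nat_lit 0, nat_lit 64), (nat_lit 0, nat_lit 0, nat_lit 65), (nat_lit 0, nat_lit 0, nat_lit 41), (nat_lit 0, nat_lit 0, nat_lit 67), (nat_lit 0, nat_lit 0, nat_lit 55), (nat_lit 0, nat_lit 0, nat_lit 60), (nat_lit 0, nat_lit 0, nat_lit 57), (nat_lit 0, nat_lit 0, nat_lit 71), (nat_lit 0, nat_lit 38, nat_lit 37), (nat_lit 0, nat_lit 0, nat_lit 36), (nat_lit 0, nat_lit 0, nat_lit 2), (nat_lit 0, nat_lit 42, nat_lit 62), (nat_lit 0, nat_lit 0, nat_lit 63), (nat_lit 0, nat_lit 0, nat_lit 77), (nat_lit 0, nat_lit 0, nat_lit 69), (nat_lit 0, nat_lit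 0, nat_lit 70), (nat_lit 0, nat_lit 44, nat_lit 0), (nat_lit 0, nat_lit 68, nat_lit 72), (nat_lit 0, nat_lit 0, nat_lit 69), (nat_lit 0, nat_lit 0, nat_lit 70), (nat_lit 0, nat_lit 0, nat_lit 59), (nat_lit 0, nat_lit 0, nat_lit 72), (nat_lit 0, nat_lit 0, nat_lit 61), (nat_lit 0, nat_lit 0, nat_lit 62), (nat_lit 0, nat_lit 0, nat_lit 88), (nat_lit 0, nat_lit 0, nat_lit 89), (nat_lit 0, nat_lit 0, nat_lit 77), (nat_lit 0, nat_lit 0, nat_lit 66), (nat_lit 0, nat_lit 9, nat_lit 92), (nat_lit 0, nat_lit 0, nat_lit 80), (nat_lit 0, nat_lit 0, nat_lit 61), (nat_lit 0, nat_lit 0, nat_lit 86), (nat_lit 0, nat_lit 0, nat_lit 63), (nat_lit 0, nat_lit 0, nat_lit 72), (nat_lit 0, nat_lit 0, nat_lit 98), (nat_lit 0, nat_lit 65, nat_lit 65), (nat_lit 0, nat_lit 0, nat_lit 65), (nat_lit 0, nat_lit 0, nat_lit 2), (nat_lit 0, nat_lit 93, nat_lit 77), (nat_lit 0, nat_lit 0, nat_lit 94), (nat_lit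 0, nat_lit 0, nat_lit 104), (nat_lit 1, nat_lit 54, nat_lit 0), (nat_lit 1, nat_lit 45, nat_lit 0), (nat_lit 1, nat_lit 26, nat_lit 0), (nat_lit 0, nat_lit 47, nat_lit 6), (nat_lit 0, nat_lit 0, nat_lit 34), (nat_lit 0, nat_lit 0, nat_lit 5), (nat_lit 0, nat_lit 0, nat_lit 36), (nat_lit 0, nat_lit 0, nat_lit 66), (nat_lit 0, nat_lit 0, nat_lit 11), (nat_lit 0, nat_lit 0, nat_lit 22), (nat_lit 0, nat_lit 0, nat_lit 13), (nat_lit 0, nat_lit 0, nat_lit 70), (nat_lit 0, nat_lit 0, nat_lit 36), (nat_lit 0, nat_lit 12, nat_lit 11), (nat_lit 0, nat_lit 0, nat_lit 1), (nat_lit 0, nat_lit 59, nat_lit 74), (nat_lit 0, nat_lit 0, nat_lit 40), (nat_lit 0, nat_lit 0, nat_lit 71), (nat_lit 0, nat_lit 0, nat_lit 72), (nat_lit 0, nat_lit 0, nat_lit 43), (nat_lit 0, nat_lit 0, nat_lit 44), (nat_lit 0, nat_lit 18, nat_lit 0)]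
def m12_s0 : Nat := nat_lit 0x687a9b543120
def m12_s1 : Nat := nat_lit 0x8649a5b70213
def m12_s2 : Nat := nat_lit 0x65b1483a7290
def m12_s3 : Nat := nat_lit 0xb58a47936210
def m12_s4 : Nat := nat_lit 0x56a9487b3210
def m12_s5 : Nat := nat_lit 0xa74b85963210
noncomputable def m12_lev0 : Core.Lev := Core.mkLev m12_n m12_w m12_mask m12_L m12_maskL m12_idc (nat_lit 2) [m12_s4, m12_s5, m12_s3, m12_s2, m12_s1, m12_s0] [(nat_lit 1, m12_s0, nat_lit 2), (nat_lit 9, m12_s2, nat_lit 1), (nat_lit 10, m12_s4, nat_lit 9), (nat_lit 4, m12_s5, nat_lit 9), (nat_lit 8, m12_s3, nat_lit 9), (nat_lit 11, m12_s2, nat_lit 9), (nat_lit 7, m12_s0, nat_lit 9), (nat_lit 6, m12_s4, nat_lit 10), (nat_lit 5, m12_s3, nat_lit 10), (nat_lit 3, m12_s3, nat_lit 4), (nat_lit 0, m12_s1, nat_lit 3)]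
noncomputable def m12_lev1 : Core.Lev := Core.mkLev m12_n m12_w m12_mask m12_L m12_maskL m12_idc (nat_lit 0) [m12_s4, m12_s5, m12_s3, m12_s2, m12_s1] [(nat_lit 3, m12_s1, nat_lit 0), (nat_lit 6, m12_s3, nat_lit 3), (nat_lit 7, m12_s2, nat_lit 3), (nat_lit 8, m12_s4, nat_lit 6), (nat_lit 5, m12_s5, nat_lit 6), (nat_lit 4, m12_s4, nat_lit 7), (nat_lit 10, m12_s1, nat_lit 7), (nat_lit 9, m12_s4, nat_lit 8), (nat_lit 11, m12_s5, nat_lit 8), (nat_lit 1, m12_s2, nat_lit 8)]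
noncomputable def m12_lev2 : Core.Lev := Core.mkLev m12_n m12_w m12_mask m12_L m12_maskL m12_idc (nat_lit 1) [m12_s4, m12_s5, m12_s3, m12_s2] [(nat_lit 9, m12_s2, nat_lit 1), (nat_lit 10, m12_s4, nat_lit 9), (nat_lit 4, m12_s5, nat_lit 9), (nat_lit 8, m12_s3, nat_lit 9), (nat_lit 11, m12_s2, nat_lit 9), (nat_lit 6, m12_s4, nat_lit 10), (nat_lit 7, m12_s5, nat_lit 10), (nat_lit 5, m12_s3, nat_lit 10), (nat_lit 3, m12_s3, nat_lit 4)]
noncomputable def m12_lev3 : Core.Lev := Core.mkLev m12_n m12_w m12_mask m12_L m12_maskL m12_idc (nat_lit 3) [m12_s4, m12_s5, m12_s3] [(nat_lit 6, m12_s3, nat_lit 3), (nat_lit 8, m12_s4, nat_lit 6), (nat_lit 5, m12_s5, nat_lit 6), (nat_lit 7, m12_s3, nat_lit 6), (nat_lit 9, m12_s4, nat_lit 8), (nat_lit 11, m12_s5, nat_lit 8), (nat_lit 10, m12_s3, nat_lit 8), (nat_lit 4, m12_s4, nat_lit 7)]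
noncomputable def m12_lev4 : Core.Lev := Core.mkLev m12_n m12_w m12_mask m12_L m12_maskL m12_idc (nat_lit 4) [m12_s4, m12_s5] [(nat_lit 11, m12_s4, nat_lit 4), (nat_lit 6, m12_s5, nat_lit 4), (nat_lit 5, m12_s4, nat_lit 11), (nat_lit 10, m12_s5, nat_lit 11), (nat_lit 8, m12_s4, nat_lit 6), (nat_lit 7, m12_s4, nat_lit 5), (nat_lit 9, m12_s5, nat_lit 5)]
noncomputable def m12_levels : List Core.Lev := [m12_lev0, m12_lev1, m12_lev2, m12_lev3, m12_lev4]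
def m11_n : Nat := nat_lit 12
def m11_w : Nat := nat_lit 4
def m11_mask : Nat := nat_lit 15
def m11_L : Nat := nat_lit 48
def m11_maskL : Nat := nat_lit 0xffffffffffff
def m11_idc : Nat := nat_lit 0xba9876543210
def m11_c0 : Nat := nat_lit 0x9ba687354210
def m11_c1 : Nat := nat_lit 0x543ba9876210
def m11_c2 : Nat := nat_lit 0xa74b85963210
def m11_c3 : Nat := nat_lit 0x49865ab73210
def m11_c4 : Nat := nat_lit 0x95746b8a3210
def m11_c5 : Nat := nat_lit 0x98ba67540213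
def m11_c6 : Nat := nat_lit 0x876ba9543201
def m11_T : List Nat := [m11_c0, m11_c1, m11_c2, m11_c3, m11_c4, m11_c5, m11_c6]
def m11_prog : List (Nat × Nat × Nat) := [(nat_lit 1, nat_lit 1, nat_lit 0), (nat_lit 1, nat_lit 1, nat_lit 0), (nat_lit 1, nat_lit 7, nat_lit 0), (nat_lit 0, nat_lit 8, nat_lit 7), (nat_lit 0, nat_lit 0, nat_lit 10), (nat_lit 0, nat_lit 0, nat_lit 8), (nat_lit 0, nat_lit 0, nat_lit 6), (nat_lit 0, nat_lit 5, nat_lit 0), (nat_lit 0, nat_lit 11, nat_lit 9), (nat_lit 0, nat_lit 0, nat_lit 12), (nat_lit 0, nat_lit 0, nat_lit 10), (nat_lit 0, nat_lit 0, nat_lit 16), (nat_lit 0, nat_lit 0, nat_lit 18), (nat_lit 0, nat_lit 0, nat_lit 16), (nat_lit 0, nat_lit 0, nat_lit 20), (nat_lit 0, nat_lit 0, nat_lit 15), (nat_lit 0, nat_lit 0, nat_lit 19), (nat_lit 0, nat_lit 0, nat_lit 20), (nat_lit 0, nat_lit 17, nat_lit 0), (nat_lit 0, nat_lit 20, nat_lit 21), (nat_lit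 0, nat_lit 0, nat_lit 26), (nat_lit 0, nat_lit 0, nat_lit 25), (nat_lit 0, nat_lit 0, nat_lit 28), (nat_lit 0, nat_lit 0, nat_lit 29), (nat_lit 0, nat_lit 0, nat_lit 30), (nat_lit 0, nat_lit 24, nat_lit 0), (nat_lit 0, nat_lit 27, nat_lit 32), (nat_lit 0, nat_lit 0, nat_lit 30), (nat_lit 0, nat_lit 0, nat_lit 29), (nat_lit 0, nat_lit 0, nat_lit 34), (nat_lit 0, nat_lit 0, nat_lit 33), (nat_lit 0, nat_lit 0, nat_lit 32), (nat_lit 0, nat_lit 0, nat_lit 38), (nat_lit 0, nat_lit 0, nat_lit 35), (nat_lit 0, nat_lit 0, nat_lit 39), (nat_lit 0, nat_lit 0, nat_lit 35), (nat_lit 0, nat_lit 0, nat_lit 39), (nat_lit 0, nat_lit 35, nat_lit 0), (nat_lit 0, nat_lit 41, nat_lit 43), (nat_lit 0, nat_lit 0, nat_lit 43), (nat_lit 0, nat_lit 0, nat_lit 45), (nat_lit 0, nat_lit 0, nat_lit 42), (nat_lit 0, nat_lit 0, nat_lit 47), (nat_lit 0, nat_lit 0, nat_lit 43), (nat_lit 0, nat_lit 0, nat_lit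 47), (nat_lit 0, nat_lit 0, nat_lit 49), (nat_lit 0, nat_lit 0, nat_lit 52), (nat_lit 0, nat_lit 0, nat_lit 50), (nat_lit 0, nat_lit 0, nat_lit 48), (nat_lit 0, nat_lit 48, nat_lit 46), (nat_lit 0, nat_lit 0, nat_lit 1), (nat_lit 0, nat_lit 53, nat_lit 56), (nat_lit 0, nat_lit 0, nat_lit 53), (nat_lit 0, nat_lit 0, nat_lit 54), (nat_lit 0, nat_lit 0, nat_lit 54), (nat_lit 0, nat_lit 53, nat_lit 0), (nat_lit 0, nat_lit 60, nat_lit 57), (nat_lit 0, nat_lit 0, nat_lit 61), (nat_lit 0, nat_lit 0, nat_lit 59), (nat_lit 0, nat_lit 0, nat_lit 60), (nat_lit 0, nat_lit 59, nat_lit 0), (nat_lit 0, nat_lit 63, nat_lit 63), (nat_lit 0, nat_lit 0, nat_lit 62), (nat_lit 0, nat_lit 0, nat_lit 64), (nat_lit 0, nat_lit 0, nat_lit 69), (nat_lit 0, nat_lit 0, nat_lit 69), (nat_lit 0, nat_lit 0, nat_lit 70), (nat_lit 0, nat_lit 0, nat_lit 69), (nat_lit 0, nat_lit 0, nat_lit 71), (nat_lit 0, nat_lit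 0, nat_lit 69), (nat_lit 1, nat_lit 0, nat_lit 0), (nat_lit 1, nat_lit 63, nat_lit 0), (nat_lit 1, nat_lit 53, nat_lit 0), (nat_lit 1, nat_lit 47, nat_lit 0), (nat_lit 0, nat_lit 13, nat_lit 4), (nat_lit 0, nat_lit 0, nat_lit 37), (nat_lit 0, nat_lit 0, nat_lit 15), (nat_lit 0, nat_lit 6, nat_lit 0), (nat_lit 0, nat_lit 17, nat_lit 22), (nat_lit 0, nat_lit 0, nat_lit 23), (nat_lit 0, nat_lit 0, nat_lit 61), (nat_lit 0, nat_lit 0, nat_lit 11), (nat_lit 0, nat_lit 0, nat_lit 63), (nat_lit 0, nat_lit 12, nat_lit 9), (nat_lit 0, nat_lit 0, nat_lit 11), (nat_lit 0, nat_lit 0, nat_lit 2), (nat_lit 0, nat_lit 60, nat_lit 25), (nat_lit 0, nat_lit 0, nat_lit 31), (nat_lit 0, nat_lit 0, nat_lit 18), (nat_lit 0, nat_lit 0, nat_lit 81), (nat_lit 0, nat_lit 0, nat_lit 20), (nat_lit 0, nat_lit 0, nat_lit 83), (nat_lit 0, nat_lit 0, nat_lit 41), (nat_lit 0, nat_lit 0, nat_lit 32), (nat_lit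 0, nat_lit 0, nat_lit 68), (nat_lit 0, nat_lit 0, nat_lit 69), (nat_lit 0, nat_lit 0, nat_lit 58), (nat_lit 0, nat_lit 13, nat_lit 25), (nat_lit 0, nat_lit 0, nat_lit 1), (nat_lit 1, nat_lit 21, nat_lit 0), (nat_lit 1, nat_lit 1, nat_lit 0), (nat_lit 0, nat_lit 1, nat_lit 0), (nat_lit 0, nat_lit 3, nat_lit 16), (nat_lit 0, nat_lit 0, nat_lit 17), (nat_lit 0, nat_lit 0, nat_lit 5), (nat_lit 0, nat_lit 0, nat_lit 6), (nat_lit 0, nat_lit 0, nat_lit 7), (nat_lit 0, nat_lit 0, nat_lit 8), (nat_lit 0, nat_lit 0, nat_lit 30), (nat_lit 0, nat_lit 0, nat_lit 23), (nat_lit 0, nat_lit 8, nat_lit 0), (nat_lit 0, nat_lit 12, nat_lit 33), (nat_lit 0, nat_lit 0, nat_lit 13), (nat_lit 0, nat_lit 0, nat_lit 14), (nat_lit 0, nat_lit 0, nat_lit 36), (nat_lit 0, nat_lit 0, nat_lit 29), (nat_lit 0, nat_lit 0, nat_lit 38), (nat_lit 0, nat_lit 0, nat_lit 31), (nat_lit 0, nat_lit 0, nat_lit 32), (nat_lit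 0, nat_lit 0, nat_lit 20), (nat_lit 0, nat_lit 0, nat_lit 21), (nat_lit 0, nat_lit 0, nat_lit 43), (nat_lit 0, nat_lit 22, nat_lit 0)]
def m11_s0 : Nat := nat_lit 0x98ba67540213
def m11_s1 : Nat := nat_lit 0x75694ba18230
def m11_s2 : Nat := nat_lit 0x9ab345678210
def m11_s3 : Nat := nat_lit 0x95746b8a3210
def m11_s4 : Nat := nat_lit 0x56a9487b3210
noncomputable def m11_lev0 : Core.Lev := Core.mkLev m11_n m11_w m11_mask m11_L m11_maskL m11_idc (nat_lit 0) [m11_s3, m11_s4, m11_s2, m11_s1, m11_s0] [(nat_lit 3, m11_s0, nat_lit 0), (nat_lit 8, m11_s2, nat_lit 3), (nat_lit 4, m11_s3, nat_lit 8), (nat_lit 9, m11_s4, nat_lit 8), (nat_lit 10, m11_s0, nat_lit 8), (nat_lit 11, m11_s4, nat_lit 4), (nat_lit 7, m11_s2, nat_lit 4), (nat_lit 1, m11_s1, nat_lit 4), (nat_lit 6, m11_s1, nat_lit 9), (nat_lit 5, m11_s3, nat_lit 10)]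
noncomputable def m11_lev1 : Core.Lev := Core.mkLev m11_n m11_w m11_mask m11_L m11_maskL m11_idc (nat_lit 1) [m11_s3, m11_s4, m11_s2, m11_s1] [(nat_lit 3, m11_s1, nat_lit 1), (nat_lit 8, m11_s2, nat_lit 3), (nat_lit 4, m11_s3, nat_lit 8), (nat_lit 9, m11_s4, nat_lit 8), (nat_lit 10, m11_s3, nat_lit 4), (nat_lit 11, m11_s4, nat_lit 4), (nat_lit 7, m11_s2, nat_lit 4), (nat_lit 6, m11_s1, nat_lit 9), (nat_lit 5, m11_s3, nat_lit 10)]
noncomputable def m11_lev2 : Core.Lev := Core.mkLev m11_n m11_w m11_mask m11_L m11_maskL m11_idc (nat_lit 3) [m11_s3, m11_s4, m11_s2] [(nat_lit 8, m11_s2, nat_lit 3), (nat_lit 4, m11_s3, nat_lit 8), (nat_lit 9, m11_s4, nat_lit 8), (nat_lit 10, m11_s3, nat_lit 4), (nat_lit 11, m11_s4, nat_lit 4), (nat_lit 7, m11_s2, nat_lit 4), (nat_lit 5, m11_s3, nat_lit 10), (nat_lit 6, m11_s4, nat_lit 10)]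
noncomputable def m11_lev3 : Core.Lev := Core.mkLev m11_n m11_w m11_mask m11_L m11_maskL m11_idc (nat_lit 4) [m11_s3, m11_s4] [(nat_lit 10, m11_s3, nat_lit 4), (nat_lit 11, m11_s4, nat_lit 4), (nat_lit 5, m11_s3, nat_lit 10), (nat_lit 6, m11_s4, nat_lit 10), (nat_lit 9, m11_s3, nat_lit 11), (nat_lit 8, m11_s3, nat_lit 5), (nat_lit 7, m11_s4, nat_lit 5)]
noncomputable def m11_levels : List Core.Lev := [m11_lev0, m11_lev1, m11_lev2, m11_lev3]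

set_option maxRecDepth 100000 in
theorem m12_check : Core.checkAll m12_n m12_w m12_mask m12_L m12_maskL m12_idc m12_T m12_prog
    m12_levels = true := by decide +kernel

theorem m12_order : Core.orderC m12_levels = 95040 := by decide +kernel

set_option maxRecDepth 100000 in
theorem m11_check : Core.checkAll m11_n m11_w m11_mask m11_L m11_maskL m11_idc m11_T m11_prog
    m11_levels = true := by decide +kernel

theorem m11_order : Core.orderC m11_levels = 7920 := by decide +kernel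

end Cfsg.Agent.Lib.PermComp.M12Explicit
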