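import Cfsg.Agent.Lib.PermComp.Table
import Mathlib.Data.ZMod.Basic
import Mathlib.LinearAlgebra.Matrix.GeneralLinearGroup.Defs
import Mathlib.LinearAlgebra.Matrix.NonsingularInverse

/-!
# Matrices given by codes

A matrix with entries in a semiring is coded by a natural number, with digits of `w` bits, in row
major order.  The coefficient operations are given by functions on natural numbers.
-/

namespace Cfsg.Agent.Lib.PermComp.MatCode

open _root_.Cfsg.Agent.Lib.PermComp.Core (force force_eq app app_eq app_lt app_push_zero app_push_succ ifB ifB_eq_true allL allL_eq_true)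

/-- Operations on coefficients. -/
structure Coef (R : Type*) [Semiring R] where
  /-- the value of a number -/
  φ : Nat → R
  /-- addition -/
  plus : Nat → Nat → Nat
  /-- multiplication -/
  times : Nat → Nat → Nat
  /-- reduction of a value to a digit -/
  red : Nat → Nat
  /-- bits of a digit -/
  w : Nat
  /-- the mask of a digit -/
  mask : Nat
  hmask : mask = 2 ^ w - 1
  φ_zero : φ 0 = 0
  φ_one : φ 1 = 1
  φ_plus : ∀ a b, φ (plus a b) = φ a + φ b
  φ_times : ∀ a b, φ (times a b) = φ a * φ b
  φ_red : ∀ a, φ (red a) = φ a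
  red_lt : ∀ a, red a < 2 ^ w

section Tab

variable {w mask : Nat}

/-- Tabulation of a function. -/
noncomputable def tabAux (w : Nat) (f : Nat → Nat) (n acc : Nat) : Nat :=
  Nat.rec (motive := fun _ => Nat → Nat) (fun acc => acc)
    (fun i ih acc => force (Nat.add (Nat.shiftLeft acc w) (f i)) ih) n acc

theorem tabAux_succ (f : Nat → Nat) (i acc : Nat) :
    tabAux w f (i + 1) acc = tabAux w f i (Nat.add (Nat.shiftLeft acc w) (f i)) := by
  show force _ _ = _
  rw [force_eq]
  rfl

theorem app_tabAux (hm : mask = 2 ^ w - 1) (f : Nat → Nat) (hf : ∀ i, f i < 2 ^ w) (n : Nat) :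
    ∀ (acc i : Nat), i < n → app w mask (tabAux w f n acc) i = f i := by
  have h3 : ∀ acc i, Nat.add (Nat.shiftLeft acc w) (f i) = acc * 2 ^ w + f i := by
    intro acc i
    show acc <<< w + _ = _
    rw [Nat.shiftLeft_eq]
  have key : ∀ (n acc i : Nat), n ≤ i →
      app w mask (tabAux w f n acc) i = app w mask acc (i - n) := by
    intro n
    induction n with
    | zero => intro acc i _; rfl
    | succ n ih =>
      intro acc i hi
      rw [tabAux_succ, ih _ _ (by omega)]
      obtain ⟨k, rfl⟩ : ∃ k, i = n + 1 + k := ⟨i - (n + 1), by omega⟩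
      have h1 : n + 1 + k - n = k + 1 := by omega
      have h2 : n + 1 + k - (n + 1) = k := by omega
      rw [h1, h2, h3]
      exact app_push_succ hm _ _ _ (hf _)
  induction n with
  | zero => intro acc i hi; omega
  | succ n ih =>
    intro acc i hi
    rw [tabAux_succ]
    by_cases h : i < n
    · exact ih _ _ h
    · have hin : i = n := by omega
      subst hin
      rw [key _ _ _ (le_refl _), h3, Nat.sub_self]
      exact app_push_zero hm _ _ (hf _)

theorem tabAux_lt (f : Nat → Nat) (hf : ∀ i, f i < 2 ^ w) (n : Nat) :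
    ∀ acc, acc < 1 → tabAux w f n acc < 2 ^ (n * w) := by
  have h3 : ∀ acc i, Nat.add (Nat.shiftLeft acc w) (f i) = acc * 2 ^ w + f i := by
    intro acc i
    show acc <<< w + _ = _
    rw [Nat.shiftLeft_eq]
  have key : ∀ (n acc b : Nat), acc < 2 ^ b → tabAux w f n acc < 2 ^ (b + n * w) := by
    intro n
    induction n with
    | zero =>
      intro acc b h
      show acc < 2 ^ (b + 0 * w)
      simpa using h
    | succ n ih =>
      intro acc b h
      rw [tabAux_succ, h3]
      have h4 : acc * 2 ^ w + f n < 2 ^ (b + w) := by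
        have h5 := hf n
        have h6 : (acc + 1) * 2 ^ w ≤ 2 ^ b * 2 ^ w := Nat.mul_le_mul_right _ h
        rw [pow_add]
        nlinarith
      have := ih _ _ h4
      have e : b + w + n * w = b + (n + 1) * w := by ring
      rwa [e] at this
  intro acc h
  have := key n acc 0 (by simpa using h)
  simpa using this

end Tab

section Mul

variable {R : Type*} [Semiring R] (C : Coef R) (d : Nat)

/-- The inner loop of a matrix product. -/
noncomputable def dotAux (c e i j : Nat) (K acc : Nat) : Nat :=
  Nat.rec (motive := fun _ => Nat → Nat) (fun acc => acc)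
    (fun k ih acc => force (C.plus acc (C.times (app C.w C.mask c (Nat.add (Nat.mul i d) k))
      (app C.w C.mask e (Nat.add (Nat.mul k d) j)))) ih) K acc

/-- The product of two codes. -/
noncomputable def mulC (c e : Nat) : Nat :=
  tabAux C.w (fun m => C.red (dotAux C d c e (Nat.div m d) (Nat.mod m d) d 0)) (Nat.mul d d) 0

/-- The matrix of a code. -/
def toM (c : Nat) : Matrix (Fin d) (Fin d) R :=
  fun i j => C.φ (app C.w C.mask c (i * d + j))

theorem φ_dotAux (c e i j K acc : Nat) :
    C.φ (dotAux C d c e i j K acc) = C.φ acc +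
      ∑ k ∈ Finset.range K, C.φ (app C.w C.mask c (i * d + k)) * C.φ (app C.w C.mask e (k * d + j)) := by
  induction K generalizing acc with
  | zero => simp; rfl
  | succ K ih =>
    have h : dotAux C d c e i j (K + 1) acc = dotAux C d c e i j K
        (C.plus acc (C.times (app C.w C.mask c (i * d + K)) (app C.w C.mask e (K * d + j)))) := by
      show force _ _ = _
      rw [force_eq]
      rfl
    rw [h, ih, C.φ_plus, C.φ_times, Finset.sum_range_succ]
    abel

theorem toM_mul (c e : Nat) : toM C d (mulC C d c e) = toM C d c * toM C d e := by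
  ext i j
  rw [Matrix.mul_apply]
  have hlt : (i : Nat) * d + j < Nat.mul d d := by
    show (i : Nat) * d + j < d * d
    have hi := i.2
    have hj := j.2
    nlinarith
  have h1 : toM C d (mulC C d c e) i j = C.φ (app C.w C.mask (mulC C d c e) (i * d + j)) := rfl
  rw [h1, mulC, app_tabAux C.hmask _ (fun _ => C.red_lt _) _ _ _ hlt, C.φ_red, φ_dotAux, C.φ_zero,
    zero_add]
  have hd : 0 < d := lt_of_le_of_lt (Nat.zero_le _) j.2
  have h2 : Nat.div ((i : Nat) * d + j) d = i := by
    show ((i : Nat) * d + j) / d = i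
    rw [Nat.mul_comm, Nat.mul_add_div hd, Nat.div_eq_of_lt j.2, Nat.add_zero]
  have h3 : Nat.mod ((i : Nat) * d + j) d = j := by
    show ((i : Nat) * d + j) % d = j
    rw [Nat.mul_comm, Nat.mul_add_mod, Nat.mod_eq_of_lt j.2]
  rw [h2, h3, Finset.sum_range]
  rfl

/-- A code of the identity matrix. -/
noncomputable def idOK (idc : Nat) : Bool :=
  allL (fun m => Nat.beq (app C.w C.mask idc m)
    (Bool.rec 0 1 (Nat.beq (Nat.div m d) (Nat.mod m d)))) (List.range (d * d))

theorem toM_id {idc : Nat} (h : idOK C d idc = true) : toM C d idc = 1 := by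
  ext i j
  have hlt : (i : Nat) * d + j < d * d := by
    have hi := i.2
    have hj := j.2
    nlinarith
  have h1 := Nat.eq_of_beq_eq_true ((allL_eq_true _ _).1 h _ (List.mem_range.2 hlt))
  have hd : 0 < d := lt_of_le_of_lt (Nat.zero_le _) j.2
  have h2 : Nat.div ((i : Nat) * d + j) d = i := by
    show ((i : Nat) * d + j) / d = i
    rw [Nat.mul_comm, Nat.mul_add_div hd, Nat.div_eq_of_lt j.2, Nat.add_zero]
  have h3 : Nat.mod ((i : Nat) * d + j) d = j := by
    show ((i : Nat) * d + j) % d = j
    rw [Nat.mul_comm, Nat.mul_add_mod, Nat.mod_eq_of_lt j.2]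
  rw [h2, h3] at h1
  have h4 : toM C d idc i j = C.φ (app C.w C.mask idc (i * d + j)) := rfl
  rw [h4, h1, Matrix.one_apply]
  by_cases hij : i = j
  · subst hij
    simp [C.φ_one]
  · have hne : (i : Nat) ≠ j := fun h => hij (Fin.ext h)
    have : Nat.beq (i : Nat) j = false := by
      rw [← Bool.not_eq_true]
      intro h5
      exact hne (Nat.eq_of_beq_eq_true h5)
    rw [this]
    simp [hij, C.φ_zero]

end Mul

section GLGroup

variable {R : Type*} [CommRing R] (C : Coef R) (d : Nat)

/-- The element `g` has the code `c`. -/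
def Rp (c : Nat) (g : GL (Fin d) R) : Prop := (g : Matrix (Fin d) (Fin d) R) = toM C d c

variable {C d}

theorem Rp.mul {c e : Nat} {a b : GL (Fin d) R} (h1 : Rp C d c a) (h2 : Rp C d e b) :
    Rp C d (mulC C d c e) (a * b) := by
  show ((a * b : GL (Fin d) R) : Matrix (Fin d) (Fin d) R) = _
  rw [toM_mul, Units.val_mul, h1, h2]

theorem Rp.one {idc : Nat} (h : idOK C d idc = true) : Rp C d idc (1 : GL (Fin d) R) := by
  show ((1 : GL (Fin d) R) : Matrix (Fin d) (Fin d) R) = _
  rw [toM_id C d h, Units.val_one]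

theorem Rp.uniq {c : Nat} {a b : GL (Fin d) R} (h1 : Rp C d c a) (h2 : Rp C d c b) : a = b :=
  Units.ext (h1.trans h2.symm)

theorem Rp.div {a c : Nat} {x y : GL (Fin d) R} (h1 : Rp C d a x)
    (h2 : Rp C d (mulC C d a c) (x * y)) : Rp C d c y := by
  have h3 : ((x * y : GL (Fin d) R) : Matrix (Fin d) (Fin d) R) = toM C d a * toM C d c := by
    rw [h2, toM_mul]
  rw [Units.val_mul, ← h1] at h3
  exact (Units.mul_right_inj x).1 h3

/-- A matrix with a code and a code of an inverse gives an element of the general linear group. -/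
theorem exists_rp {idc c c' : Nat} (h : idOK C d idc = true) (hc : mulC C d c c' = idc) :
    ∃ g : GL (Fin d) R, Rp C d c g := by
  have h1 : toM C d c * toM C d c' = 1 := by
    rw [← toM_mul, hc, toM_id C d h]
  exact ⟨⟨toM C d c, toM C d c', h1, mul_eq_one_comm.1 h1⟩, rfl⟩

end GLGroup

section Canon

variable {R : Type*} [CommRing R] {C : Coef R} {d : Nat}

/-- A canonical code. -/
noncomputable def canonOK (C : Coef R) (d q c : Nat) : Bool :=
  ifB (Nat.ble (Nat.succ c) (Nat.pow 2 (Nat.mul (Nat.mul d d) C.w))) <|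
  allL (fun m => Nat.ble (Nat.succ (app C.w C.mask c m)) q) (List.range (d * d))

theorem code_eq_of_rp {q : Nat} (hφ : ∀ a b, a < q → b < q → C.φ a = C.φ b → a = b) {c e : Nat}
    {g : GL (Fin d) R} (hc : canonOK C d q c = true) (he : canonOK C d q e = true)
    (h1 : Rp C d c g) (h2 : Rp C d e g) : c = e := by
  simp only [canonOK, ifB_eq_true] at hc he
  obtain ⟨hc1, hc2⟩ := hc
  obtain ⟨he1, he2⟩ := he
  have hc1' : c < 2 ^ ((d * d) * C.w) := Nat.le_of_ble_eq_true hc1
  have he1' : e < 2 ^ ((d * d) * C.w) := Nat.le_of_ble_eq_true he1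
  refine _root_.Cfsg.Agent.Lib.PermComp.Core.eq_of_digits C.hmask (d * d) c e hc1' he1' ?_
  intro m hm
  have hd : 0 < d := by
    rcases Nat.eq_zero_or_pos d with h | h
    · subst h
      simp at hm
    · exact h
  have hc3 : app C.w C.mask c m < q :=
    Nat.le_of_ble_eq_true ((allL_eq_true _ _).1 hc2 m (List.mem_range.2 hm))
  have he3 : app C.w C.mask e m < q :=
    Nat.le_of_ble_eq_true ((allL_eq_true _ _).1 he2 m (List.mem_range.2 hm))
  apply hφ _ _ hc3 he3
  have hi : m / d < d := Nat.div_lt_of_lt_mul hm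
  have hj : m % d < d := Nat.mod_lt _ hd
  have hm2 : m / d * d + m % d = m := Nat.div_add_mod' m d
  have h3 : toM C d c ⟨m / d, hi⟩ ⟨m % d, hj⟩ = toM C d e ⟨m / d, hi⟩ ⟨m % d, hj⟩ := by
    rw [← show (g : Matrix (Fin d) (Fin d) R) = toM C d c from h1,
      ← show (g : Matrix (Fin d) (Fin d) R) = toM C d e from h2]
  have h4 : toM C d c ⟨m / d, hi⟩ ⟨m % d, hj⟩ = C.φ (app C.w C.mask c (m / d * d + m % d)) := rfl
  have h5 : toM C d e ⟨m / d, hi⟩ ⟨m % d, hj⟩ = C.φ (app C.w C.mask e (m / d * d + m % d)) := rfl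
  rw [h4, h5, hm2] at h3
  exact h3

/-- The codes of a list are canonical and increasing. -/
noncomputable def listOK (C : Coef R) (d q : Nat) (U : Nat → Nat) (n : Nat) : Bool :=
  Nat.rec true (fun x ih =>
    ifB (canonOK C d q (U x)) <|
    ifB (Nat.rec true (fun y _ => Nat.ble (Nat.succ (U y)) (U (Nat.succ y))) x) ih) n

theorem inj_of_listOK {q : Nat} (hφ : ∀ a b, a < q → b < q → C.φ a = C.φ b → a = b)
    {U : Nat → Nat} {n : Nat} (h : listOK C d q U n = true) :
    ∀ x < n, ∀ y < n, ∀ a : GL (Fin d) R, Rp C d (U x) a → Rp C d (U y) a → x = y := by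
  have h1 : ∀ m, m ≤ n → listOK C d q U m = true := by
    intro m hm
    induction n, hm using Nat.le_induction with
    | base => exact h
    | succ n _ ih =>
      apply ih
      have h' : ifB (canonOK C d q (U n)) (ifB (Nat.rec true
          (fun y _ => Nat.ble (Nat.succ (U y)) (U (Nat.succ y))) n) (listOK C d q U n)) = true := h
      rw [ifB_eq_true, ifB_eq_true] at h'
      exact h'.2.2
  have hcanon : ∀ x < n, canonOK C d q (U x) = true := by
    intro x hx
    have h' : ifB (canonOK C d q (U x)) (ifB (Nat.rec true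
        (fun y _ => Nat.ble (Nat.succ (U y)) (U (Nat.succ y))) x) (listOK C d q U x)) = true :=
      h1 (x + 1) hx
    rw [ifB_eq_true] at h'
    exact h'.1
  have hstep : ∀ y, y + 1 < n → U y < U (y + 1) := by
    intro y hy
    have h' : ifB (canonOK C d q (U (y + 1))) (ifB (Nat.rec true
        (fun y _ => Nat.ble (Nat.succ (U y)) (U (Nat.succ y))) (y + 1)) (listOK C d q U (y + 1))) = true :=
      h1 (y + 2) hy
    rw [ifB_eq_true, ifB_eq_true] at h'
    exact Nat.le_of_ble_eq_true h'.2.1
  have hmono : ∀ x y, x < y → y < n → U x < U y := by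
    intro x y hxy
    induction y, hxy using Nat.le_induction with
    | base => intro h; exact hstep _ h
    | succ y hy ih =>
      intro h
      exact (ih (by omega)).trans (hstep _ h)
  intro x hx y hy a h2 h3
  have h4 := code_eq_of_rp hφ (hcanon x hx) (hcanon y hy) h2 h3
  rcases Nat.lt_trichotomy x y with h | h | h
  · have := hmono x y h hy
    omega
  · exact h
  · have := hmono y x h hx
    omega

/-- The check that `σ` sorts the codes of a list: these are canonical and increasing. -/
noncomputable def sortedOK (C : Coef R) (d q : Nat) (U σ : Nat → Nat) (N m : Nat) : Bool :=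
  Nat.rec true (fun i ih =>
    ifB (Nat.ble (Nat.succ (σ i)) N) <|
    ifB (canonOK C d q (U (σ i))) <|
    ifB (Nat.rec true (fun y _ => Nat.ble (Nat.succ (U (σ y))) (U (σ (Nat.succ y)))) i) ih) m

theorem sortedOK_spec {q : Nat} {U σ : Nat → Nat} {N : Nat} (m : Nat)
    (h : sortedOK C d q U σ N m = true) :
    (∀ i < m, σ i < N ∧ canonOK C d q (U (σ i)) = true) ∧
      ∀ y, y + 1 < m → U (σ y) < U (σ (y + 1)) := by
  induction m with
  | zero => exact ⟨fun i hi => by omega, fun y hy => by omega⟩
  | succ m ih =>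
    have h' : ifB (Nat.ble (Nat.succ (σ m)) N) (ifB (canonOK C d q (U (σ m))) (ifB (Nat.rec true
        (fun y _ => Nat.ble (Nat.succ (U (σ y))) (U (σ (Nat.succ y)))) m)
        (sortedOK C d q U σ N m))) = true := h
    rw [ifB_eq_true, ifB_eq_true, ifB_eq_true] at h'
    obtain ⟨h1, h2, h3, h4⟩ := h'
    obtain ⟨ih1, ih2⟩ := ih h4
    refine ⟨?_, ?_⟩
    · intro i hi
      by_cases him : i < m
      · exact ih1 i him
      · have : i = m := by omega
        subst this
        exact ⟨Nat.le_of_ble_eq_true h1, h2⟩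
    · intro y hy
      by_cases hym : y + 1 < m
      · exact ih2 y hym
      · have : m = y + 1 := by omega
        subst this
        exact Nat.le_of_ble_eq_true h3

theorem inj_of_sortedOK {q : Nat} (hφ : ∀ a b, a < q → b < q → C.φ a = C.φ b → a = b)
    {U σ : Nat → Nat} {n : Nat} (h : sortedOK C d q U σ n n = true) :
    ∀ x < n, ∀ y < n, ∀ a : GL (Fin d) R, Rp C d (U x) a → Rp C d (U y) a → x = y := by
  obtain ⟨h1, hstep⟩ := sortedOK_spec n h
  have hmono : ∀ i j, i < j → j < n → U (σ i) < U (σ j) := by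
    intro i j hij
    induction j, hij using Nat.le_induction with
    | base => intro h; exact hstep _ h
    | succ j hj ih =>
      intro h
      exact (ih (by omega)).trans (hstep _ h)
  let f : Fin n → Fin n := fun i => ⟨σ i, (h1 i i.2).1⟩
  have hf : Function.Injective f := by
    intro i j hij
    have h2 : σ i = σ j := congrArg Fin.val hij
    apply Fin.ext
    rcases Nat.lt_trichotomy (i : Nat) j with h3 | h3 | h3
    · have := hmono _ _ h3 j.2
      rw [h2] at this
      omega
    · exact h3
    · have := hmono _ _ h3 i.2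
      rw [h2] at this
      omega
  have hsurj : Function.Surjective f := Finite.injective_iff_surjective.1 hf
  intro x hx y hy a h2 h3
  obtain ⟨i, hi⟩ := hsurj ⟨x, hx⟩
  obtain ⟨j, hj⟩ := hsurj ⟨y, hy⟩
  have hi' : σ i = x := congrArg Fin.val hi
  have hj' : σ j = y := congrArg Fin.val hj
  rw [← hi'] at h2
  rw [← hj'] at h3
  have h4 := code_eq_of_rp hφ (h1 i i.2).2 (h1 j j.2).2 h2 h3
  rw [← hi', ← hj']
  rcases Nat.lt_trichotomy (i : Nat) j with h5 | h5 | h5
  · have := hmono _ _ h5 j.2
    omega
  · rw [Fin.ext h5]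
  · have := hmono _ _ h5 i.2
    omega

end Canon

section ZModOps

/-- The coefficient operations of the integers modulo `q`. -/
def zmodCoef (q w mask : Nat) (hq : 1 < q) (hq2 : q ≤ 2 ^ w) (hm : mask = 2 ^ w - 1) :
    Coef (ZMod q) where
  φ a := (a : ZMod q)
  plus := Nat.add
  times := Nat.mul
  red a := Nat.mod a q
  w := w
  mask := mask
  hmask := hm
  φ_zero := by simp
  φ_one := by simp
  φ_plus a b := by simp
  φ_times a b := by simp
  φ_red a := by
    show ((a % q : Nat) : ZMod q) = a
    simp
  red_lt a := by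
    show a % q < 2 ^ w
    exact lt_of_lt_of_le (Nat.mod_lt _ (by omega)) hq2

theorem zmodCoef_inj (q w mask : Nat) (hq : 1 < q) (hq2 : q ≤ 2 ^ w) (hm : mask = 2 ^ w - 1) :
    ∀ a b, a < q → b < q → (zmodCoef q w mask hq hq2 hm).φ a = (zmodCoef q w mask hq hq2 hm).φ b →
      a = b := by
  intro a b ha hb h
  have h' : (a : ZMod q) = b := h
  rw [ZMod.natCast_eq_natCast_iff'] at h'
  rwa [Nat.mod_eq_of_lt ha, Nat.mod_eq_of_lt hb] at h'

end ZModOps

end Cfsg.Agent.Lib.PermComp.MatCode
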